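/-
Rewriting with central tails by explicit steps, and tails determined by one generator.

* `run`, `run_sound`: a sequence of rewritings with the vector of tails used.
* `derive`, `derive_sound`: an overlap whose vector has one new tail determines it.
-/
import Cfsg.Agent.EqLemmas
import Mathlib.GroupTheory.Subgroup.Center
import Mathlib.Tactic.Group
import Mathlib.Data.Nat.Bitwise

set_option autoImplicit false

namespace Cfsg.Agent.F4Cover

/-- A system of rules. -/
structure RuleSys where
  /-- the rule of a tail -/
  rule : ℕ → List ℕ × List ℕ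
  /-- the usable tails -/
  okK : ℕ → Bool

variable (R : RuleSys)

/-- One rewriting at a given position. -/
def apply1 (w : List ℕ) (pos k : ℕ) : Option (List ℕ) :=
  if R.okK k && (R.rule k).1.isPrefixOf (w.drop pos) then
    some (w.take pos ++ ((R.rule k).2 ++ (w.drop pos).drop (R.rule k).1.length))
  else none

/-- A sequence of rewritings. -/
def run : List (ℕ × ℕ) → List ℕ → Option (List ℕ × List ℕ)
  | [], w => some (w, [])
  | (pos, k) :: l, w => match apply1 R w pos k with
    | none => none
    | some w' => match run l w' with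
      | none => none
      | some (f, v) => some (f, k :: v)

/-- Adding a multiple of one tail to a vector. -/
def insTail (k : ℕ) (c : ℤ) : List (ℕ × ℤ) → List (ℕ × ℤ)
  | [] => [(k, c)]
  | (j, a) :: l => if j = k then (if a + c = 0 then l else (j, a + c) :: l) else (j, a) :: insTail k c l

/-- Collecting the multiples of each tail. -/
def normVec : List (ℕ × ℤ) → List (ℕ × ℤ)
  | [] => []
  | (k, c) :: l => insTail k c (normVec l)

/-- The vector of an overlap: the tails of the first sequence, and those of the second negated. -/
def ovlVec (o : List ℕ × List (ℕ × ℕ) × List (ℕ × ℕ)) : Option (List (ℕ × ℤ)) :=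
  match run R o.2.1 o.1, run R o.2.2 o.1 with
  | some (f, v), some (g, v') =>
    if f == g then some (normVec (v.map (fun k => (k, (1 : ℤ))) ++ v'.map (fun k => (k, (-1 : ℤ))))) else none
  | _, _ => none

/-- The multiple of the generator of a determined tail. -/
def mval (pos neg k : ℕ) : ℤ := if pos.testBit k then 1 else if neg.testBit k then -1 else 0

/-- The sum of the coefficients at one tail. -/
def coefAt (k : ℕ) : List (ℕ × ℤ) → ℤ
  | [] => 0
  | (j, c) :: l => (if j = k then c else 0) + coefAt k l

/-- All other tails are determined. -/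
def othersKnown (known k : ℕ) (v : List (ℕ × ℤ)) : Bool := v.all fun x => decide (x.1 = k) || known.testBit x.1

/-- The value of a vector in multiples of the generator. -/
def mSum (pos neg : ℕ) : List (ℕ × ℤ) → ℤ
  | [] => 0
  | (j, c) :: l => c * mval pos neg j + mSum pos neg l

/-- One derivation. -/
def derive1 (pos neg known k : ℕ) (o : List ℕ × List (ℕ × ℕ) × List (ℕ × ℕ)) : Bool :=
  match ovlVec R o with
  | none => false
  | some v => (coefAt k v == 1 || coefAt k v == -1) && othersKnown known k v && (mSum pos neg v == 0)

/-- A sequence of derivations, from one set of determined tails to another. -/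
def derive (pos neg : ℕ) : ℕ → List (ℕ × (List ℕ × List (ℕ × ℕ) × List (ℕ × ℕ))) → Option ℕ
  | known, [] => some known
  | known, (k, o) :: l => if derive1 R pos neg known k o then derive pos neg (known ||| (1 <<< k)) l else none

section

variable {Γ : Type*} [Group Γ] (y : ℕ → Γ) (t : ℕ → Subgroup.center Γ)

/-- The value of a word. -/
def wv (w : List ℕ) : Γ := (w.map y).prod

theorem wv_append (u w : List ℕ) : wv y (u ++ w) = wv y u * wv y w := by simp [wv]

/-- The rules hold with their tails. -/
def Holds : Prop := ∀ k, R.okK k = true → wv y (R.rule k).1 = wv y (R.rule k).2 * (t k : Γ)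

/-- The value of a vector. -/
def vv : List (ℕ × ℤ) → Subgroup.center Γ
  | [] => 1
  | (k, c) :: l => t k ^ c * vv l

theorem vv_append (u v : List (ℕ × ℤ)) : vv t (u ++ v) = vv t u * vv t v := by
  induction u with
  | nil => exact (one_mul _).symm
  | cons x u ih => show t x.1 ^ x.2 * vv t (u ++ v) = _; rw [ih, ← mul_assoc]; rfl

theorem cmul_comm (a b : Subgroup.center Γ) : a * b = b * a := Subtype.ext (Subgroup.mem_center_iff.1 b.2 a.1)

theorem vv_insTail (k : ℕ) (c : ℤ) : ∀ l : List (ℕ × ℤ), vv t (insTail k c l) = t k ^ c * vv t l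
  | [] => rfl
  | (j, a) :: l => by
    unfold insTail
    by_cases h : j = k
    · subst h
      rw [if_pos rfl]
      by_cases h0 : a + c = 0
      · rw [if_pos h0]
        show vv t l = t j ^ c * (t j ^ a * vv t l)
        rw [← mul_assoc, ← zpow_add, add_comm c a, h0, zpow_zero, one_mul]
      · rw [if_neg h0]
        show t j ^ (a + c) * vv t l = t j ^ c * (t j ^ a * vv t l)
        rw [← mul_assoc, ← zpow_add, add_comm c a]
    · rw [if_neg h]
      show t j ^ a * vv t (insTail k c l) = t k ^ c * (t j ^ a * vv t l)
      rw [vv_insTail k c l, ← mul_assoc, ← mul_assoc, cmul_comm (t j ^ a)]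

theorem vv_normVec : ∀ l : List (ℕ × ℤ), vv t (normVec l) = vv t l
  | [] => rfl
  | (k, c) :: l => by
    show vv t (insTail k c (normVec l)) = t k ^ c * vv t l
    rw [vv_insTail, vv_normVec l]

variable {R y t}

theorem run_sound (h : Holds R y t) : ∀ (l : List (ℕ × ℕ)) (w f : List ℕ) (v : List ℕ),
    run R l w = some (f, v) → wv y w = wv y f * (vv t (v.map fun k => (k, (1 : ℤ))) : Γ)
  | [], w, f, v, e => by
    simp only [run, Option.some.injEq, Prod.mk.injEq] at e
    obtain ⟨rfl, rfl⟩ := e
    simp [vv]
  | (pos, k) :: l, w, f, v, e => by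
    simp only [run] at e
    split at e
    · cases e
    rename_i w' hw'
    split at e
    · cases e
    rename_i f' v' hr
    simp only [Option.some.injEq, Prod.mk.injEq] at e
    obtain ⟨rfl, rfl⟩ := e
    have ih := run_sound h l w' f' v' hr
    unfold apply1 at hw'
    split at hw'
    swap
    · cases hw'
    rename_i hc
    simp only [Bool.and_eq_true] at hc
    obtain ⟨u, hu⟩ := List.isPrefixOf_iff_prefix.1 hc.2
    simp only [Option.some.injEq] at hw'
    subst hw'
    rw [← hu, List.drop_left] at ih
    have hw : wv y w = wv y (w.take pos) * (wv y (R.rule k).1 * wv y u) := by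
      rw [← wv_append, ← wv_append, hu, List.take_append_drop]
    rw [hw, h k hc.1]
    simp only [List.map_cons, vv, zpow_one, Subgroup.coe_mul]
    rw [wv_append, wv_append] at ih
    rw [cmul_comm_coe (t k) (wv y u), ← mul_assoc (wv y (R.rule k).2), ← mul_assoc, ih, mul_assoc]
    exact congrArg (wv y f' * ·) (Subgroup.mem_center_iff.1 (t k).2 _)
where
  cmul_comm_coe (a : Subgroup.center Γ) (g : Γ) {b : Γ} : b * (a : Γ) * g = b * (g * (a : Γ)) := by
    rw [mul_assoc, Subgroup.mem_center_iff.1 a.2 g]

theorem ovlVec_sound (h : Holds R y t) {o : List ℕ × List (ℕ × ℕ) × List (ℕ × ℕ)} {v : List (ℕ × ℤ)}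
    (e : ovlVec R o = some v) : vv t v = 1 := by
  simp only [ovlVec] at e
  split at e
  swap
  · cases e
  rename_i f a g b ha hb
  split at e
  swap
  · cases e
  rename_i hfg
  rw [beq_iff_eq] at hfg
  subst hfg
  simp only [Option.some.injEq] at e
  subst e
  have h1 := run_sound h _ _ _ _ ha
  rw [run_sound h _ _ _ _ hb] at h1
  have h2 : vv t (b.map fun k => (k, (1 : ℤ))) = vv t (a.map fun k => (k, (1 : ℤ))) := Subtype.ext (mul_left_cancel h1)
  have h3 : ∀ b : List ℕ, vv t (b.map fun k => (k, (-1 : ℤ))) = (vv t (b.map fun k => (k, (1 : ℤ))))⁻¹ := by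
    intro b
    induction b with
    | nil => simp [vv]
    | cons x b ih =>
      simp only [List.map_cons, vv, mul_inv_rev, ih, zpow_neg_one, zpow_one]
      exact cmul_comm _ _
  rw [vv_normVec, vv_append, h3, h2, mul_inv_cancel]

theorem vv_split {c : Subgroup.center Γ} {pos neg known k : ℕ}
    (hknown : ∀ j, known.testBit j = true → t j = c ^ mval pos neg j) :
    ∀ v : List (ℕ × ℤ), othersKnown known k v = true →
      vv t v = t k ^ coefAt k v * c ^ (mSum pos neg v - coefAt k v * mval pos neg k)
  | [], _ => by simp [vv, coefAt, mSum]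
  | (j, a) :: l, h => by
    simp only [othersKnown, List.all_cons, Bool.and_eq_true] at h
    have ih := vv_split hknown l h.2
    simp only [vv, coefAt, mSum, ih]
    by_cases hj : j = k
    · subst hj
      rw [if_pos rfl, zpow_add, mul_assoc]
      congr 3
      ring
    · rw [if_neg hj, zero_add]
      have hb : known.testBit j = true := by simpa [hj] using h.1
      rw [hknown j hb, ← zpow_mul, ← mul_assoc, cmul_comm _ (t k ^ _), mul_assoc, ← zpow_add]
      congr 2
      ring

theorem derive1_sound (h : Holds R y t) {c : Subgroup.center Γ} {pos neg known k : ℕ}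
    {o : List ℕ × List (ℕ × ℕ) × List (ℕ × ℕ)}
    (hknown : ∀ j, known.testBit j = true → t j = c ^ mval pos neg j) (e : derive1 R pos neg known k o = true) :
    t k = c ^ mval pos neg k := by
  simp only [derive1] at e
  split at e
  · cases e
  rename_i v hv
  simp only [Bool.and_eq_true, Bool.or_eq_true, beq_iff_eq] at e
  obtain ⟨⟨hc, ho⟩, hm⟩ := e
  have h1 := (ovlVec_sound h hv).symm.trans (vv_split hknown v ho)
  rw [hm, zero_sub, zpow_neg] at h1
  have h2 : t k ^ coefAt k v = c ^ (coefAt k v * mval pos neg k) := (mul_inv_eq_one.1 h1.symm)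
  rcases hc with hc | hc <;> rw [hc] at h2
  · rwa [zpow_one, one_mul] at h2
  · rwa [zpow_neg_one, neg_one_mul, zpow_neg, inv_inj] at h2

theorem derive_sound (h : Holds R y t) {c : Subgroup.center Γ} {pos neg : ℕ} :
    ∀ (l : List (ℕ × (List ℕ × List (ℕ × ℕ) × List (ℕ × ℕ)))) (known known' : ℕ),
      (∀ j, known.testBit j = true → t j = c ^ mval pos neg j) → derive R pos neg known l = some known' →
      ∀ j, known'.testBit j = true → t j = c ^ mval pos neg j
  | [], known, known', hk, e => by simp only [derive, Option.some.injEq] at e; subst e; exact hk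
  | (k, o) :: l, known, known', hk, e => by
    simp only [derive] at e
    split at e
    swap
    · cases e
    rename_i h1
    refine derive_sound h l _ known' (fun j hj => ?_) e
    rw [Nat.testBit_or, Bool.or_eq_true] at hj
    rcases hj with hj | hj
    · exact hk j hj
    · rw [Nat.one_shiftLeft, Nat.testBit_two_pow, decide_eq_true_eq] at hj
      subst hj
      exact derive1_sound h hk h1

end

end Cfsg.Agent.F4Cover
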