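/-
The odd terms of the commutator relations of `F₄`.
-/
import Cfsg.Agent.EqLemmas

set_option autoImplicit false

namespace Cfsg.Agent.F4Cover

/-- For each root `r` and each root `s` the roots with odd coefficient in the commutator relation. -/
def oddTerms : ℕ → List (List ℕ)
  | 0 => [[], [], [], [], [], [], [], [], [], [], [], [], [], [], [], [], [], [], [], [], [], [], [], [], [1], [], [2], [], [], [3, 6], [], [4], [5], [], [], [], [7, 17], [], [8, 22], [9, 25], [11, 30], [], [15], [16], [18, 41], [21], [23], []]
  | 1 => [[], [], [], [], [], [], [], [], [], [], [], [], [], [], [], [], [], [], [], [], [], [], [], [0], [], [2], [], [], [3, 5], [], [4], [], [6], [], [], [7, 16], [], [8, 21], [], [10, 26], [12, 31], [15], [], [17], [19, 42], [22], [], [24]]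
  | 2 => [[], [], [], [], [], [], [], [], [], [], [], [], [], [], [], [], [], [], [], [], [], [0], [1], [], [], [], [], [3, 4], [], [], [5], [6], [], [], [7, 15], [], [], [9, 23], [10, 24], [], [13, 32], [16], [17], [], [20, 43], [], [25], [26]]
  | 3 => [[], [], [], [], [], [], [], [], [], [], [], [], [], [], [], [], [], [], [], [], [], [], [], [], [], [], [], [], [], [], [], [], [], [7], [8], [9], [10], [11], [12], [13], [14], [18, 0], [19, 1], [20, 2], [], [27, 4], [28, 5], [29, 6]]
  | 4 => [[], [], [], [], [], [], [], [], [], [], [], [], [], [], [], [], [0], [1], [], [], [3, 2], [], [], [], [], [5], [6], [], [], [], [], [], [], [8, 15], [], [11, 23], [12, 24], [], [], [14, 32], [], [21], [22], [], [27, 45], [], [30], [31]]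
  | 5 => [[], [], [], [], [], [], [], [], [], [], [], [], [], [], [], [0], [], [2], [], [3, 1], [], [], [4], [], [6], [], [], [], [], [], [], [], [], [9, 16], [11, 21], [], [13, 26], [], [14, 31], [], [], [23], [], [25], [28, 46], [30], [], [32]]
  | 6 => [[], [], [], [], [], [], [], [], [], [], [], [], [], [], [], [1], [2], [], [3, 0], [], [], [4], [], [5], [], [], [], [], [], [], [], [], [], [10, 17], [12, 22], [13, 25], [], [14, 30], [], [], [], [], [24], [26], [29, 47], [31], [32], []]
  | 7 => [[], [], [], [], [], [], [], [], [], [], [], [], [], [], [3], [], [], [], [], [], [], [], [], [], [], [], [], [8], [9], [10], [11, 0], [12, 1], [13, 2], [], [], [], [], [18], [19], [20], [], [], [], [], [33], [34, 15], [35, 16], [36, 17]]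
  | 8 => [[], [], [], [], [], [], [], [], [], [], [], [], [], [3], [], [], [], [], [], [], [7], [], [], [], [], [9, 0], [10, 1], [], [11], [12], [], [], [14, 4], [], [], [18], [19], [], [], [], [27], [], [], [33, 15], [34], [], [37, 21], [38, 22]]
  | 9 => [[], [], [], [], [], [], [], [], [], [], [], [], [3], [], [], [], [], [], [], [7], [], [], [8, 0], [], [10, 2], [], [], [11], [], [13], [], [14, 5], [], [], [18], [], [20], [], [], [], [28], [], [33, 16], [], [35], [37, 23], [], [39, 25]]
  | 10 => [[], [], [], [], [], [], [], [], [], [], [], [3], [], [], [], [], [], [], [7], [], [], [8, 1], [], [9, 2], [], [], [], [12], [13], [], [14, 6], [], [], [], [19], [20], [], [], [], [], [29], [33, 17], [], [], [36], [38, 24], [39, 26], []]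
  | 11 => [[], [], [], [], [], [], [], [], [], [], [3], [], [], [], [], [], [], [7, 0], [], [8], [9], [], [], [], [12, 4], [], [13, 5], [], [], [14], [], [], [], [18], [], [], [], [], [27], [28], [], [], [34, 21], [35, 23], [37], [], [], [40, 30]]
  | 12 => [[], [], [], [], [], [], [], [], [], [3], [], [], [], [], [], [], [7, 1], [], [8], [], [10], [], [], [11, 4], [], [13, 6], [], [], [14], [], [], [], [], [19], [], [], [], [27], [], [29], [], [34, 22], [], [36, 24], [38], [], [40, 31], []]
  | 13 => [[], [], [], [], [], [], [], [], [3], [], [], [], [], [], [], [7, 2], [], [], [9], [10], [], [11, 5], [12, 6], [], [], [], [], [14], [], [], [], [], [], [20], [], [], [], [28], [29], [], [], [35, 25], [36, 26], [], [39], [40, 32], [], []]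
  | 14 => [[], [], [], [], [], [], [], [3], [], [], [], [], [], [], [], [8, 4], [9, 5], [10, 6], [11], [12], [13], [], [], [], [], [], [], [], [], [], [], [], [], [], [27], [28], [29], [], [], [], [], [37, 30], [38, 31], [39, 32], [40], [], [], []]
  | 15 => [[], [], [], [], [], [0], [1], [], [], [], [], [], [], [7, 2], [8, 4], [], [], [], [], [], [], [], [], [], [], [16], [17], [], [18, 23], [19, 24], [21], [22], [], [], [], [], [], [], [], [33, 43], [34, 45], [], [], [], [], [], [41], [42]]
  | 16 => [[], [], [], [], [0], [], [2], [], [], [], [], [], [7, 1], [], [9, 5], [], [], [], [], [], [], [], [15], [], [17], [], [], [18, 21], [], [20, 26], [23], [], [25], [], [], [], [], [], [33, 42], [], [35, 46], [], [], [], [], [41], [], [43]]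
  | 17 => [[], [], [], [], [1], [2], [], [], [], [], [], [7, 0], [], [], [10, 6], [], [], [], [], [], [], [15], [], [16], [], [], [], [19, 22], [20, 25], [], [], [24], [26], [], [], [], [], [33, 41], [], [], [36, 47], [], [], [], [], [42], [43], []]
  | 18 => [[], [], [], [], [], [], [3, 0], [], [], [], [7], [], [8], [9], [11], [], [], [], [], [], [], [], [], [], [19, 15], [], [20, 16], [], [], [], [], [27, 21], [28, 23], [], [], [], [33], [], [34], [35], [37], [], [], [], [], [], [], [44, 41]]
  | 19 => [[], [], [], [], [], [3, 1], [], [], [], [7], [], [8], [], [10], [12], [], [], [], [], [], [], [], [], [18, 15], [], [20, 17], [], [], [], [], [27, 22], [], [29, 24], [], [], [33], [], [34], [], [36], [38], [], [], [], [], [], [44, 42], []]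
  | 20 => [[], [], [], [], [3, 2], [], [], [], [7], [], [], [9], [10], [], [13], [], [], [], [], [], [], [18, 16], [19, 17], [], [], [], [], [], [], [], [28, 25], [29, 26], [], [], [33], [], [], [35], [36], [], [39], [], [], [], [], [44, 43], [], []]
  | 21 => [[], [], [0], [], [], [], [4], [], [], [], [8, 1], [], [], [11, 5], [], [], [], [15], [], [], [18, 16], [], [], [], [22], [23], [], [], [], [27, 31], [], [], [30], [], [], [], [34, 42], [], [], [37, 46], [], [], [], [41], [], [], [], [45]]
  | 22 => [[], [], [1], [], [], [4], [], [], [], [8, 0], [], [], [], [12, 6], [], [], [15], [], [], [], [19, 17], [], [], [21], [], [], [24], [], [27, 30], [], [], [], [31], [], [], [34, 41], [], [], [], [38, 47], [], [], [], [42], [], [], [45], []]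
  | 23 => [[], [0], [], [], [], [], [5], [], [], [], [9, 2], [], [11, 4], [], [], [], [], [16], [], [18, 15], [], [], [21], [], [], [], [25], [], [], [28, 32], [], [30], [], [], [], [], [35, 43], [], [37, 45], [], [], [], [41], [], [], [], [], [46]]
  | 24 => [[1], [], [], [], [], [6], [], [], [], [10, 2], [], [12, 4], [], [], [], [], [17], [], [19, 15], [], [], [22], [], [], [], [26], [], [], [29, 32], [], [31], [], [], [], [], [36, 43], [], [38, 45], [], [], [], [42], [], [], [], [], [47], []]
  | 25 => [[], [2], [], [], [5], [], [], [], [9, 0], [], [], [], [13, 6], [], [], [16], [], [], [], [20, 17], [], [23], [], [], [26], [], [], [28, 30], [], [], [], [32], [], [], [35, 41], [], [], [], [39, 47], [], [], [], [43], [], [], [46], [], []]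
  | 26 => [[2], [], [], [], [6], [], [], [], [10, 1], [], [], [13, 5], [], [], [], [17], [], [], [20, 16], [], [], [], [24], [25], [], [], [], [29, 31], [], [], [32], [], [], [], [36, 42], [], [], [39, 46], [], [], [], [43], [], [], [], [47], [], []]
  | 27 => [[], [], [3, 4], [], [], [], [], [8], [], [11], [12], [], [], [14], [], [], [18, 21], [19, 22], [], [], [], [], [], [], [], [28, 30], [29, 31], [], [], [], [], [], [], [34], [], [37], [38], [], [], [40], [], [], [], [44, 45], [], [], [], []]
  | 28 => [[], [3, 5], [], [], [], [], [], [9], [11], [], [13], [], [14], [], [], [18, 23], [], [20, 25], [], [], [], [], [27, 30], [], [29, 32], [], [], [], [], [], [], [], [], [35], [37], [], [39], [], [40], [], [], [], [44, 46], [], [], [], [], []]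
  | 29 => [[3, 6], [], [], [], [], [], [], [10], [12], [13], [], [14], [], [], [], [19, 24], [20, 26], [], [], [], [], [27, 31], [], [28, 32], [], [], [], [], [], [], [], [], [], [36], [38], [39], [], [40], [], [], [], [44, 47], [], [], [], [], [], []]
  | 30 => [[], [4], [5], [], [], [], [], [11, 0], [], [], [14, 6], [], [], [], [], [21], [23], [], [], [27, 22], [28, 25], [], [], [], [31], [], [32], [], [], [], [], [], [], [37, 41], [], [], [40, 47], [], [], [], [], [], [45], [46], [], [], [], []]
  | 31 => [[4], [], [6], [], [], [], [], [12, 1], [], [14, 5], [], [], [], [], [], [22], [], [24], [27, 21], [], [29, 26], [], [], [30], [], [32], [], [], [], [], [], [], [], [38, 42], [], [40, 46], [], [], [], [], [], [45], [], [47], [], [], [], []]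
  | 32 => [[5], [6], [], [], [], [], [], [13, 2], [14, 4], [], [], [], [], [], [], [], [25], [26], [28, 23], [29, 24], [], [30], [31], [], [], [], [], [], [], [], [], [], [], [39, 43], [40, 45], [], [], [], [], [], [], [46], [47], [], [], [], [], []]
  | 33 => [[], [], [], [7], [8, 15], [9, 16], [10, 17], [], [], [], [], [18], [19], [20], [], [], [], [], [], [], [], [], [], [], [], [], [], [34], [35], [36], [37, 41], [38, 42], [39, 43], [], [], [], [], [], [], [], [44], [], [], [], [], [], [], []]
  | 34 => [[], [], [7, 15], [8], [], [11, 21], [12, 22], [], [], [18], [19], [], [], [], [27], [], [], [], [], [], [33], [], [], [], [], [35, 41], [36, 42], [], [37], [38], [], [], [40, 45], [], [], [], [], [], [], [44], [], [], [], [], [], [], [], []]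
  | 35 => [[], [7, 16], [], [9], [11, 23], [], [13, 25], [], [18], [], [20], [], [], [], [28], [], [], [], [], [33], [], [], [34, 41], [], [36, 43], [], [], [37], [], [39], [], [40, 46], [], [], [], [], [], [], [44], [], [], [], [], [], [], [], [], []]
  | 36 => [[7, 17], [], [], [10], [12, 24], [13, 26], [], [], [19], [20], [], [], [], [], [29], [], [], [], [33], [], [], [34, 42], [], [35, 43], [], [], [], [38], [39], [], [40, 47], [], [], [], [], [], [], [44], [], [], [], [], [], [], [], [], [], []]
  | 37 => [[], [8, 21], [9, 23], [11], [], [], [14, 30], [18], [], [], [], [], [27], [28], [], [], [], [33, 41], [], [34], [35], [], [], [], [38, 45], [], [39, 46], [], [], [40], [], [], [], [], [], [], [44], [], [], [], [], [], [], [], [], [], [], []]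
  | 38 => [[8, 22], [], [10, 24], [12], [], [14, 31], [], [19], [], [], [], [27], [], [29], [], [], [33, 42], [], [34], [], [36], [], [], [37, 45], [], [39, 47], [], [], [40], [], [], [], [], [], [], [44], [], [], [], [], [], [], [], [], [], [], [], []]
  | 39 => [[9, 25], [10, 26], [], [13], [14, 32], [], [], [20], [], [], [], [28], [29], [], [], [33, 43], [], [], [35], [36], [], [37, 46], [38, 47], [], [], [], [], [40], [], [], [], [], [], [], [44], [], [], [], [], [], [], [], [], [], [], [], [], []]
  | 40 => [[11, 30], [12, 31], [13, 32], [14], [], [], [], [], [27], [28], [29], [], [], [], [], [34, 45], [35, 46], [36, 47], [37], [38], [39], [], [], [], [], [], [], [], [], [], [], [], [], [44], [], [], [], [], [], [], [], [], [], [], [], [], [], []]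
  | 41 => [[], [15], [16], [18, 0], [21], [23], [], [], [], [], [33, 17], [], [34, 22], [35, 25], [37, 30], [], [], [], [], [], [], [], [], [], [42], [], [43], [], [], [44, 47], [], [45], [46], [], [], [], [], [], [], [], [], [], [], [], [], [], [], []]
  | 42 => [[15], [], [17], [19, 1], [22], [], [24], [], [], [33, 16], [], [34, 21], [], [36, 26], [38, 31], [], [], [], [], [], [], [], [], [41], [], [43], [], [], [44, 46], [], [45], [], [47], [], [], [], [], [], [], [], [], [], [], [], [], [], [], []]
  | 43 => [[16], [17], [], [20, 2], [], [25], [26], [], [33, 15], [], [], [35, 23], [36, 24], [], [39, 32], [], [], [], [], [], [], [41], [42], [], [], [], [], [44, 45], [], [], [46], [47], [], [], [], [], [], [], [], [], [], [], [], [], [], [], [], []]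
  | 44 => [[18, 41], [19, 42], [20, 43], [], [27, 45], [28, 46], [29, 47], [33], [34], [35], [36], [37], [38], [39], [40], [], [], [], [], [], [], [], [], [], [], [], [], [], [], [], [], [], [], [], [], [], [], [], [], [], [], [], [], [], [], [], [], []]
  | 45 => [[21], [22], [], [27, 4], [], [30], [31], [34, 15], [], [37, 23], [38, 24], [], [], [40, 32], [], [], [41], [42], [], [], [44, 43], [], [], [], [], [46], [47], [], [], [], [], [], [], [], [], [], [], [], [], [], [], [], [], [], [], [], [], []]
  | 46 => [[23], [], [25], [28, 5], [30], [], [32], [35, 16], [37, 21], [], [39, 26], [], [40, 31], [], [], [41], [], [43], [], [44, 42], [], [], [45], [], [47], [], [], [], [], [], [], [], [], [], [], [], [], [], [], [], [], [], [], [], [], [], [], []]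
  | 47 => [[], [24], [26], [29, 6], [31], [32], [], [36, 17], [38, 22], [39, 25], [], [40, 30], [], [], [], [42], [43], [], [44, 41], [], [], [45], [], [46], [], [], [], [], [], [], [], [], [], [], [], [], [], [], [], [], [], [], [], [], [], [], [], []]
  | _ => []

/-- The odd terms of a pair. -/
def wt (r s : ℕ) : List ℕ := (oddTerms r).getD s []

end Cfsg.Agent.F4Cover
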