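/-
Checks of the certificate of the bound for the stem extensions of `F₄(2)`.

* `sysF4`: the rules.
* `check_chain`, `check_two`, `check_def`, `check_all`.
-/
import Cfsg.Agent.Lib.F4Cover.Rewrite
import Cfsg.Agent.Lib.F4Cover.BoundData
import Cfsg.Agent.Lib.F4Cover.Terms

set_option autoImplicit false
set_option maxRecDepth 100000
set_option maxHeartbeats 0
set_option Elab.async false

namespace Cfsg.Agent.F4Cover

/-- The rules: squares, then for each pair of roots the exchange. -/
def sysF4 : RuleSys where
  rule k := if k < 48 then ([k, k], []) else
    ([(k - 48) % 48, (k - 48) / 48], [(k - 48) / 48, (k - 48) % 48] ++ wt ((k - 48) / 48) ((k - 48) % 48))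
  okK k := decide (k < 48 ∨ k < 2352 ∧ (k - 48) % 48 ≠ (k - 48) / 48 ∧ (k - 48) % 48 + (k - 48) / 48 ≠ 47)

/-- The tail of a pair. -/
def keyOf (a b : ℕ) : ℕ := 48 + 48 * a + b

/-- The tails known at the start. -/
def startMask : ℕ := (defPair.map fun p => keyOf p.1 p.2).foldr (fun k m => (1 <<< k) ||| m) (1 <<< keyGen)

/-- One link of the chain. -/
def link (l : List (ℕ × Ovl)) (i : ℕ) : Bool :=
  derive sysF4 posMask negMask (knownMasks.getD i 0) l == some (knownMasks.getD (i + 1) 0)

theorem check_chain0 : link steps0 0 = true := by decide +kernel

theorem check_chain1 : link steps1 1 = true := by decide +kernel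

theorem check_chain2 : link steps2 2 = true := by decide +kernel

theorem check_chain3 : link steps3 3 = true := by decide +kernel

theorem check_chain4 : link steps4 4 = true := by decide +kernel

theorem check_chain5 : link steps5 5 = true := by decide +kernel

theorem check_chain6 : link steps6 6 = true := by decide +kernel

theorem check_chain7 : link steps7 7 = true := by decide +kernel

theorem check_chain8 : link steps8 8 = true := by decide +kernel

theorem check_chain9 : link steps9 9 = true := by decide +kernel

theorem check_chain10 : link steps10 10 = true := by decide +kernel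

theorem check_chain11 : link steps11 11 = true := by decide +kernel

theorem check_start : (startMask == knownMasks.getD 0 0 && mval posMask negMask keyGen == 1 &&
    (defPair.all fun p => mval posMask negMask (keyOf p.1 p.2) == 0)) = true := by decide +kernel

/-- All tails are determined. -/
theorem check_all : ((List.range 2352).all fun k => !sysF4.okK k || (knownMasks.getD 12 0).testBit k) = true := by
  decide +kernel

theorem check_two : (match ovlVec sysF4 twoOvl with
    | none => false
    | some v => ((v.all fun x => sysF4.okK x.1) &&
        (mSum posMask negMask v == 2 || mSum posMask negMask v == -2))) = true := by decide +kernel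

/-- The defining pairs have a single term. -/
theorem check_def : ((List.range 48).all fun r => decide ((defPair.getD r (0, 0)).1 < 48 ∧
    (defPair.getD r (0, 0)).2 < 48) && (wt (defPair.getD r (0, 0)).1 (defPair.getD r (0, 0)).2 == [r]) &&
    sysF4.okK (keyOf (defPair.getD r (0, 0)).1 (defPair.getD r (0, 0)).2)) = true := by decide +kernel

end Cfsg.Agent.F4Cover
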