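/-
Square matrices of size 52 over `ZMod 3`, packed one byte for each entry in a natural number.

* `mulP`: the product, by 52 products of packed columns and rows and a reduction in parallel.
* `dec`: the matrix; `dec_mulP`: the product is respected.
-/
import Cfsg.Agent.EqLemmas
import Mathlib.Data.ZMod.Basic
import Mathlib.Data.Matrix.Mul
import Mathlib.Data.Nat.Bitwise
import Mathlib.Algebra.BigOperators.Fin

set_option autoImplicit false
set_option maxRecDepth 100000

namespace Cfsg.Agent.F4Cover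

open scoped BigOperators

/-- A field of eight bits. -/
def fld (x i : ℕ) : ℕ := (x >>> (8 * i)) &&& 255

/-- Sums of equal fields, one in each of `n` groups of `m`. -/
def rep (v m : ℕ) : ℕ → ℕ
  | 0 => 0
  | n + 1 => v + (rep v m n <<< (8 * m))

/-- The first column. -/
def colMask : ℕ := rep 255 52 52

/-- The first row. -/
def rowMask : ℕ := rep 255 1 52

/-- The two low bits of every field. -/
def m3 : ℕ := rep 3 1 2704

/-- The six low bits of every field. -/
def m63 : ℕ := rep 63 1 2704

/-- The lowest bit of every field. -/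
def m1 : ℕ := rep 1 1 2704

/-- Folding in parallel: a field keeps its class modulo three. -/
def fold3 (x : ℕ) : ℕ := (x &&& m3) + ((x >>> 2) &&& m63)

/-- The products of columns and rows, added up. -/
def outer (A B : ℕ) : ℕ → ℕ
  | 0 => 0
  | k + 1 => outer A B k + ((A >>> (8 * k)) &&& colMask) * ((B >>> (8 * (52 * k))) &&& rowMask)

/-- Reduction of every field to a class representative at most two. -/
def red (x : ℕ) : ℕ :=
  let y := fold3 (fold3 (fold3 (fold3 (fold3 x))))
  y - 3 * ((y &&& (y >>> 1)) &&& m1)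

/-- The product of packed matrices. -/
def mulP (A B : ℕ) : ℕ := red (outer A B 52)

/-- The matrix of a packed number. -/
def dec (x : ℕ) : Matrix (Fin 52) (Fin 52) (ZMod 3) := fun i j => (fld x (52 * i.val + j.val) : ZMod 3)

theorem fld_eq (x i : ℕ) : fld x i = x / 256 ^ i % 256 := by
  rw [fld, Nat.shiftRight_eq_div_pow, show (255 : ℕ) = 2 ^ 8 - 1 from rfl, Nat.and_two_pow_sub_one_eq_mod, pow_mul]
  norm_num

theorem fld_lt (x i : ℕ) : fld x i < 256 := by rw [fld_eq]; omega

theorem eq_sum_fld : ∀ (n x : ℕ), x < 256 ^ n → x = ∑ i ∈ Finset.range n, fld x i * 256 ^ i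
  | 0, x, h => by simp at h; simp [h]
  | n + 1, x, h => by
    have hd : x / 256 < 256 ^ n := by rw [Nat.div_lt_iff_lt_mul (by norm_num)]; rwa [← pow_succ]
    have ih := eq_sum_fld n (x / 256) hd
    rw [Finset.sum_range_succ']
    have e : ∀ i, fld x (i + 1) * 256 ^ (i + 1) = 256 * (fld (x / 256) i * 256 ^ i) := fun i => by
      rw [fld_eq, fld_eq, Nat.div_div_eq_div_mul, ← pow_succ', pow_succ' 256 i]; ring
    rw [Finset.sum_congr rfl fun i _ => e i, ← Finset.mul_sum, ← ih, fld_eq, pow_zero, Nat.div_one, mul_one,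
      Nat.div_add_mod]

theorem sum_fld_lt (f : ℕ → ℕ) : ∀ n : ℕ, (∀ i < n, f i < 256) → ∑ i ∈ Finset.range n, f i * 256 ^ i < 256 ^ n
  | 0, _ => by simp
  | n + 1, h => by
    rw [Finset.sum_range_succ, pow_succ]
    have h1 := sum_fld_lt f n fun i hi => h i (by omega)
    have h2 := Nat.mul_le_mul_right (256 ^ n) (Nat.le_sub_one_of_lt (h n (by omega)))
    omega

theorem fld_sum (f : ℕ → ℕ) : ∀ (n : ℕ), (∀ i < n, f i < 256) → ∀ i < n,
    fld (∑ k ∈ Finset.range n, f k * 256 ^ k) i = f i
  | n + 1, h, i, hi => by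
    rw [Finset.sum_range_succ, fld_eq]
    have hs := sum_fld_lt f n fun k hk => h k (by omega)
    rcases Nat.lt_or_ge i n with hlt | hge
    · have e : 256 ^ n = 256 ^ i * (256 * 256 ^ (n - i - 1)) := by rw [← pow_succ', ← pow_add]; congr 1; omega
      rw [e, show f n * (256 ^ i * (256 * 256 ^ (n - i - 1))) = 256 ^ i * (256 * (f n * 256 ^ (n - i - 1))) by ring,
        Nat.add_mul_div_left _ _ (by positivity), Nat.add_mul_mod_self_left]
      have := fld_sum f n (fun k hk => h k (by omega)) i hlt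
      rwa [fld_eq] at this
    · obtain rfl : i = n := by omega
      rw [Nat.add_mul_div_right _ _ (by positivity), Nat.div_eq_of_lt hs, zero_add,
        Nat.mod_eq_of_lt (h i (by omega))]

theorem testBit_fld (x i b : ℕ) : (fld x i).testBit b = (decide (b < 8) && x.testBit (8 * i + b)) := by
  rw [fld, Nat.testBit_and, Nat.testBit_shiftRight, show (255 : ℕ) = 2 ^ 8 - 1 from rfl,
    Nat.testBit_two_pow_sub_one, Bool.and_comm]

theorem fld_and (x y i : ℕ) : fld (x &&& y) i = fld x i &&& fld y i := by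
  refine Nat.eq_of_testBit_eq fun b => ?_
  simp only [Nat.testBit_and, testBit_fld]
  cases decide (b < 8) <;> simp

theorem fld_shift (x k i : ℕ) : fld (x >>> (8 * k)) i = fld x (i + k) := by
  rw [fld, fld, ← Nat.shiftRight_add, mul_add, add_comm (8 * k)]

theorem fld_shift_small {x i s c : ℕ} (hs : s + c ≤ 8) :
    fld (x >>> s) i &&& (2 ^ c - 1) = (fld x i >>> s) &&& (2 ^ c - 1) := by
  refine Nat.eq_of_testBit_eq fun b => ?_
  simp only [Nat.testBit_and, Nat.testBit_shiftRight, testBit_fld, Nat.testBit_two_pow_sub_one]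
  by_cases hb : b < c
  · simp [hb, show b < 8 by omega, show s + b < 8 by omega, show s + (8 * i + b) = 8 * i + (s + b) by omega]
  · simp [hb]

theorem masks : ((List.range 2704).all fun i => decide (fld colMask i = if i % 52 = 0 then 255 else 0) &&
    decide (fld rowMask i = if i < 52 then 255 else 0) && decide (fld m3 i = 3) && decide (fld m63 i = 63) &&
    decide (fld m1 i = 1)) = true ∧ colMask < 256 ^ 2704 ∧ rowMask < 256 ^ 52 ∧ m3 < 256 ^ 2704 ∧
    m63 < 256 ^ 2704 ∧ m1 < 256 ^ 2704 := by decide +kernel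

theorem mask_facts {i : ℕ} (hi : i < 2704) : fld colMask i = (if i % 52 = 0 then 255 else 0) ∧
    fld rowMask i = (if i < 52 then 255 else 0) ∧ fld m3 i = 3 ∧ fld m63 i = 63 ∧ fld m1 i = 1 := by
  have h := masks.1
  simp only [List.all_eq_true, List.mem_range, Bool.and_eq_true, decide_eq_true_eq] at h
  obtain ⟨⟨⟨⟨a, b⟩, c⟩, d⟩, e⟩ := h i hi
  exact ⟨a, b, c, d, e⟩

theorem fold3_spec {x : ℕ} : (∀ i < 2704, fld (fold3 x) i = fld x i % 4 + fld x i / 4) ∧ fold3 x < 256 ^ 2704 := by
  obtain ⟨-, -, -, h3, h63, -⟩ := masks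
  have hA : x &&& m3 < 256 ^ 2704 := lt_of_le_of_lt Nat.and_le_right h3
  have hB : (x >>> 2) &&& m63 < 256 ^ 2704 := lt_of_le_of_lt Nat.and_le_right h63
  have e : fold3 x = ∑ i ∈ Finset.range 2704, (fld (x &&& m3) i + fld ((x >>> 2) &&& m63) i) * 256 ^ i := by
    simp only [add_mul, Finset.sum_add_distrib, ← eq_sum_fld 2704 _ hA, ← eq_sum_fld 2704 _ hB]
    rfl
  have hf : ∀ i < 2704, fld (x &&& m3) i + fld ((x >>> 2) &&& m63) i = fld x i % 4 + fld x i / 4 := by
    intro i hi
    obtain ⟨-, -, c, d, -⟩ := mask_facts hi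
    rw [fld_and, c, fld_and, d, show (63 : ℕ) = 2 ^ 6 - 1 from rfl, fld_shift_small (by norm_num),
      Nat.and_two_pow_sub_one_eq_mod, show (3 : ℕ) = 2 ^ 2 - 1 from rfl, Nat.and_two_pow_sub_one_eq_mod,
      Nat.shiftRight_eq_div_pow]
    have := fld_lt x i
    omega
  have hlt : ∀ i < 2704, fld (x &&& m3) i + fld ((x >>> 2) &&& m63) i < 256 := fun i hi => by
    rw [hf i hi]; have := fld_lt x i; omega
  rw [e]
  exact ⟨fun i hi => by rw [fld_sum _ _ hlt i hi]; exact hf i hi, sum_fld_lt _ _ hlt⟩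

theorem red_spec {x i : ℕ} (hi : i < 2704) : fld (red x) i = fld x i % 3 := by
  have hy : ∀ i < 2704, fld (fold3 (fold3 (fold3 (fold3 (fold3 x))))) i ≤ 3 ∧
      fld (fold3 (fold3 (fold3 (fold3 (fold3 x))))) i % 3 = fld x i % 3 := by
    intro i hi
    simp only [fold3_spec.1 i hi]
    have := fld_lt x i
    omega
  set y := fold3 (fold3 (fold3 (fold3 (fold3 x))))
  obtain ⟨-, -, -, -, -, h1⟩ := masks
  have hT : (y &&& (y >>> 1)) &&& m1 < 256 ^ 2704 := lt_of_le_of_lt Nat.and_le_right h1
  have ht : ∀ i < 2704, fld ((y &&& (y >>> 1)) &&& m1) i = if fld y i = 3 then 1 else 0 := by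
    intro i hi
    obtain ⟨-, -, -, -, e⟩ := mask_facts hi
    rw [fld_and, fld_and, e, Nat.and_assoc, show (1 : ℕ) = 2 ^ 1 - 1 from rfl, fld_shift_small (by norm_num)]
    have := (hy i hi).1
    generalize fld y i = v at this
    interval_cases v <;> decide
  have hylt : y < 256 ^ 2704 := fold3_spec.2
  have e : red x = ∑ i ∈ Finset.range 2704, (fld y i - 3 * fld ((y &&& (y >>> 1)) &&& m1) i) * 256 ^ i := by
    have e1 : y = ∑ i ∈ Finset.range 2704, (fld y i - 3 * fld ((y &&& (y >>> 1)) &&& m1) i) * 256 ^ i +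
        3 * ∑ i ∈ Finset.range 2704, fld ((y &&& (y >>> 1)) &&& m1) i * 256 ^ i := by
      rw [Finset.mul_sum, ← Finset.sum_add_distrib]
      refine (eq_sum_fld 2704 y hylt).trans (Finset.sum_congr rfl fun i hi => ?_)
      rw [← mul_assoc, ← add_mul]
      congr 1
      have := ht i (Finset.mem_range.1 hi)
      split_ifs at this with h <;> omega
    rw [← eq_sum_fld 2704 _ hT] at e1
    show y - 3 * _ = _
    exact Nat.sub_eq_of_eq_add e1
  rw [e, fld_sum _ _ (fun k _ => by have := fld_lt y k; omega) i hi, ht i hi]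
  have := hy i hi
  split_ifs <;> omega

/-- Entries at most two. -/
def Small (x : ℕ) : Prop := ∀ i < 2704, fld x i ≤ 2

theorem small_mulP (A B : ℕ) : Small (mulP A B) := fun i hi => by
  rw [mulP, red_spec hi]; omega

theorem mulP_fld {A B : ℕ} (hA : Small A) (hB : Small B) (i j : ℕ) (hi : i < 52) (hj : j < 52) :
    fld (mulP A B) (52 * i + j) = (∑ k ∈ Finset.range 52, fld A (52 * i + k) * fld B (52 * k + j)) % 3 := by
  obtain ⟨-, hc, hr, -, -, -⟩ := masks
  have hterm : ∀ k < 52, ((A >>> (8 * k)) &&& colMask) * ((B >>> (8 * (52 * k))) &&& rowMask) =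
      ∑ i ∈ Finset.range 52, ∑ j ∈ Finset.range 52, fld A (52 * i + k) * fld B (52 * k + j) * 256 ^ (52 * i + j) := by
    intro k hk
    have h1 : (A >>> (8 * k)) &&& colMask = ∑ i ∈ Finset.range 52, fld A (52 * i + k) * 256 ^ (52 * i) := by
      rw [eq_sum_fld 2704 _ (lt_of_le_of_lt Nat.and_le_right hc)]
      have hsub : (Finset.range 52).image (fun i => 52 * i) ⊆ Finset.range 2704 := by
        intro a ha
        obtain ⟨b, hb, rfl⟩ := Finset.mem_image.1 ha
        simp only [Finset.mem_range] at hb ⊢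
        omega
      rw [← Finset.sum_subset hsub ?_, Finset.sum_image (fun a _ b _ h => by simpa using h)]
      · refine Finset.sum_congr rfl fun i hi => ?_
        rw [Finset.mem_range] at hi
        rw [fld_and, (mask_facts (show 52 * i < 2704 by omega)).1, if_pos (by omega), fld_shift,
          show (255 : ℕ) = 2 ^ 8 - 1 from rfl, Nat.and_two_pow_sub_one_eq_mod, Nat.mod_eq_of_lt (fld_lt _ _)]
      · intro a ha hna
        rw [Finset.mem_range] at ha
        rw [fld_and, (mask_facts ha).1, if_neg, Nat.and_zero, zero_mul]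
        exact fun h => hna (Finset.mem_image.2 ⟨a / 52, Finset.mem_range.2 (by omega), by omega⟩)
    have h2 : (B >>> (8 * (52 * k))) &&& rowMask = ∑ j ∈ Finset.range 52, fld B (52 * k + j) * 256 ^ j := by
      rw [eq_sum_fld 52 _ (lt_of_le_of_lt Nat.and_le_right hr)]
      refine Finset.sum_congr rfl fun j hj => ?_
      rw [Finset.mem_range] at hj
      rw [fld_and, (mask_facts (show j < 2704 by omega)).2.1, if_pos hj, fld_shift, add_comm j,
        show (255 : ℕ) = 2 ^ 8 - 1 from rfl, Nat.and_two_pow_sub_one_eq_mod, Nat.mod_eq_of_lt (fld_lt _ _)]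
    rw [h1, h2, Finset.sum_mul_sum]
    exact Finset.sum_congr rfl fun i _ => Finset.sum_congr rfl fun j _ => by rw [pow_add]; ring
  have hout : ∀ n ≤ 52, outer A B n = ∑ k ∈ Finset.range n,
      ∑ i ∈ Finset.range 52, ∑ j ∈ Finset.range 52, fld A (52 * i + k) * fld B (52 * k + j) * 256 ^ (52 * i + j) := by
    intro n
    induction n with
    | zero => exact fun _ => rfl
    | succ n ih => intro hn; rw [outer, ih (by omega), hterm n (by omega), Finset.sum_range_succ _ n]
  set g : ℕ → ℕ := fun m => ∑ k ∈ Finset.range 52, fld A (52 * (m / 52) + k) * fld B (52 * k + m % 52) with hgdef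
  have hg : ∀ m < 2704, g m < 256 := fun m hm => by
    refine lt_of_le_of_lt (Finset.sum_le_card_nsmul _ _ 4 fun k hk => ?_) (by simp)
    rw [Finset.mem_range] at hk
    exact (Nat.mul_le_mul (hA _ (by omega)) (hB _ (by omega))).trans (by norm_num)
  have hflat : outer A B 52 = ∑ m ∈ Finset.range 2704, g m * 256 ^ m := by
    rw [hout 52 le_rfl, Finset.sum_comm]
    have : ∀ f : ℕ → ℕ, ∑ m ∈ Finset.range 2704, f m = ∑ i ∈ Finset.range 52, ∑ j ∈ Finset.range 52, f (52 * i + j) := by
      intro f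
      have h : ∀ n, ∑ m ∈ Finset.range (52 * n), f m = ∑ i ∈ Finset.range n, ∑ j ∈ Finset.range 52, f (52 * i + j) := by
        intro n
        induction n with
        | zero => simp
        | succ n ih => rw [Finset.sum_range_succ, ← ih, mul_add, mul_one, Finset.sum_range_add]
      exact h 52
    rw [this]
    refine Finset.sum_congr rfl fun i hi => ?_
    rw [Finset.sum_comm]
    refine Finset.sum_congr rfl fun j hj => ?_
    rw [Finset.mem_range] at hi hj
    rw [hgdef, Finset.sum_mul]
    simp only [show (52 * i + j) / 52 = i by omega, show (52 * i + j) % 52 = j by omega]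
  rw [mulP, red_spec (by omega), hflat, fld_sum _ _ hg _ (by omega)]
  simp only [hgdef, show (52 * i + j) / 52 = i by omega, show (52 * i + j) % 52 = j by omega]

theorem dec_mulP {A B : ℕ} (hA : Small A) (hB : Small B) : dec (mulP A B) = dec A * dec B := by
  ext i j
  rw [dec, mulP_fld hA hB _ _ i.2 j.2, Matrix.mul_apply, ZMod.natCast_mod, Nat.cast_sum, Finset.sum_range]
  simp [dec]

end Cfsg.Agent.F4Cover
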