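/-
Checks of the matrices of the double cover of `F₄(2)`.

* `checkTab_true`, `checkSmall_true`, `checkSq_true`, `checkRel_true`, `checkDev_true`.
-/
import Cfsg.Agent.Lib.F4Cover.Data
import Cfsg.Agent.Lib.F4Cover.Terms
import Cfsg.Agent.Lib.F4Cover.Pack
import Cfsg.Prelude.Def_ChevStructure
import Cfsg.Prelude.Def_ChevF4
import Mathlib.Tactic.IntervalCases

set_option autoImplicit false
set_option maxRecDepth 100000
set_option maxHeartbeats 0
set_option Elab.async false

namespace Cfsg.Agent.F4Cover

open Cfsg.Lie Cfsg.Lie.ChevalleyDatum

/-- The packed identity. -/
def oneP : ℕ := rep 1 53 52

/-- The packed negative of the identity. -/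
def negP : ℕ := rep 2 53 52

/-- The packed product of a word. -/
def wordP : List ℕ → ℕ
  | [] => oneP
  | [r] => mat r
  | r :: l => mulP (mat r) (wordP l)

/-- Equality up to sign. -/
def eqSign (a b : ℕ) : Bool := (a == b) || (a == mulP negP b)

/-- The table of odd terms agrees with the commutator terms. -/
def checkTab : Bool :=
  (List.range 48).all fun r => (List.range 48).all fun s => decide (s = r ∨ s = chevF4.neg r) ||
    (((chevF4.commTerms r s).filterMap fun c => if c.2.1 % 2 = 0 then none else some c.1) == wt r s &&
      (wt r s).all fun k => decide (k < 48))

/-- Entries are at most two. -/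
def checkSmall : Bool :=
  (List.range 48).all fun r => red (mat r) == mat r

/-- The squares are scalars. -/
def checkSq : Bool :=
  (List.range 48).all fun r => eqSign (mulP (mat r) (mat r)) oneP

/-- The commutator relations of one root. -/
def checkRel (r : ℕ) : Bool :=
  (List.range 48).all fun s => decide (s = r ∨ s = chevF4.neg r) || eqSign (wordP [s, r]) (wordP ([r, s] ++ wt r s))

theorem checkTab_true : checkTab = true := by decide +kernel

theorem checkSmall_true : checkSmall = true := by decide +kernel

theorem checkSq_true : checkSq = true := by decide +kernel

theorem checkRel_0 : checkRel 0 = true := by decide +kernel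
theorem checkRel_1 : checkRel 1 = true := by decide +kernel
theorem checkRel_2 : checkRel 2 = true := by decide +kernel
theorem checkRel_3 : checkRel 3 = true := by decide +kernel
theorem checkRel_4 : checkRel 4 = true := by decide +kernel
theorem checkRel_5 : checkRel 5 = true := by decide +kernel
theorem checkRel_6 : checkRel 6 = true := by decide +kernel
theorem checkRel_7 : checkRel 7 = true := by decide +kernel
theorem checkRel_8 : checkRel 8 = true := by decide +kernel
theorem checkRel_9 : checkRel 9 = true := by decide +kernel
theorem checkRel_10 : checkRel 10 = true := by decide +kernel
theorem checkRel_11 : checkRel 11 = true := by decide +kernel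
theorem checkRel_12 : checkRel 12 = true := by decide +kernel
theorem checkRel_13 : checkRel 13 = true := by decide +kernel
theorem checkRel_14 : checkRel 14 = true := by decide +kernel
theorem checkRel_15 : checkRel 15 = true := by decide +kernel
theorem checkRel_16 : checkRel 16 = true := by decide +kernel
theorem checkRel_17 : checkRel 17 = true := by decide +kernel
theorem checkRel_18 : checkRel 18 = true := by decide +kernel
theorem checkRel_19 : checkRel 19 = true := by decide +kernel
theorem checkRel_20 : checkRel 20 = true := by decide +kernel
theorem checkRel_21 : checkRel 21 = true := by decide +kernel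
theorem checkRel_22 : checkRel 22 = true := by decide +kernel
theorem checkRel_23 : checkRel 23 = true := by decide +kernel
theorem checkRel_24 : checkRel 24 = true := by decide +kernel
theorem checkRel_25 : checkRel 25 = true := by decide +kernel
theorem checkRel_26 : checkRel 26 = true := by decide +kernel
theorem checkRel_27 : checkRel 27 = true := by decide +kernel
theorem checkRel_28 : checkRel 28 = true := by decide +kernel
theorem checkRel_29 : checkRel 29 = true := by decide +kernel
theorem checkRel_30 : checkRel 30 = true := by decide +kernel
theorem checkRel_31 : checkRel 31 = true := by decide +kernel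
theorem checkRel_32 : checkRel 32 = true := by decide +kernel
theorem checkRel_33 : checkRel 33 = true := by decide +kernel
theorem checkRel_34 : checkRel 34 = true := by decide +kernel
theorem checkRel_35 : checkRel 35 = true := by decide +kernel
theorem checkRel_36 : checkRel 36 = true := by decide +kernel
theorem checkRel_37 : checkRel 37 = true := by decide +kernel
theorem checkRel_38 : checkRel 38 = true := by decide +kernel
theorem checkRel_39 : checkRel 39 = true := by decide +kernel
theorem checkRel_40 : checkRel 40 = true := by decide +kernel
theorem checkRel_41 : checkRel 41 = true := by decide +kernel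
theorem checkRel_42 : checkRel 42 = true := by decide +kernel
theorem checkRel_43 : checkRel 43 = true := by decide +kernel
theorem checkRel_44 : checkRel 44 = true := by decide +kernel
theorem checkRel_45 : checkRel 45 = true := by decide +kernel
theorem checkRel_46 : checkRel 46 = true := by decide +kernel
theorem checkRel_47 : checkRel 47 = true := by decide +kernel

theorem checkRel_true {r : ℕ} (hr : r < 48) : checkRel r = true := by
  interval_cases r
  · exact checkRel_0
  · exact checkRel_1
  · exact checkRel_2
  · exact checkRel_3
  · exact checkRel_4
  · exact checkRel_5
  · exact checkRel_6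
  · exact checkRel_7
  · exact checkRel_8
  · exact checkRel_9
  · exact checkRel_10
  · exact checkRel_11
  · exact checkRel_12
  · exact checkRel_13
  · exact checkRel_14
  · exact checkRel_15
  · exact checkRel_16
  · exact checkRel_17
  · exact checkRel_18
  · exact checkRel_19
  · exact checkRel_20
  · exact checkRel_21
  · exact checkRel_22
  · exact checkRel_23
  · exact checkRel_24
  · exact checkRel_25
  · exact checkRel_26
  · exact checkRel_27
  · exact checkRel_28
  · exact checkRel_29
  · exact checkRel_30
  · exact checkRel_31
  · exact checkRel_32
  · exact checkRel_33
  · exact checkRel_34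
  · exact checkRel_35
  · exact checkRel_36
  · exact checkRel_37
  · exact checkRel_38
  · exact checkRel_39
  · exact checkRel_40
  · exact checkRel_41
  · exact checkRel_42
  · exact checkRel_43
  · exact checkRel_44
  · exact checkRel_45
  · exact checkRel_46
  · exact checkRel_47

/-- Three relations whose signs do not cancel. -/
def checkDev : Bool :=
  (wordP [29, 0] == wordP ([0, 29] ++ wt 0 29)) && (wordP [14, 7] == mulP negP (wordP ([7, 14] ++ wt 7 14))) &&
    (wordP [32, 1] == wordP ([1, 32] ++ wt 1 32)) &&
    (wt 0 29 == [3, 6]) && (wt 7 14 == [3]) && (wt 1 32 == [6])

theorem checkDev_true : checkDev = true := by decide +kernel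

theorem scalars_ne : (oneP == negP) = false := by decide +kernel

end Cfsg.Agent.F4Cover
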