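/-
A stem extension of the covering group of `F₄(2)` with kernel of order two.

* `Y`: the invertible matrices lifting the root elements.
* `exists_cover_two`: the extension.
-/
import Cfsg.Agent.Lib.F4Cover.Check
import Cfsg.Agent.Lib.ChevSt.Multiplier
import Cfsg.Agent.Lib.Chev.All

set_option autoImplicit false
set_option maxRecDepth 100000
set_option maxHeartbeats 1000000
set_option linter.style.haveILetI false

universe u

namespace Cfsg.Agent.F4Cover

open Cfsg.Lie Cfsg.Lie.ChevalleyDatum Cfsg.Agent.Chev Cfsg.Agent.ChevBN Cfsg.Agent.ChevSt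
open scoped commutatorElement

/-- The matrices. -/
abbrev Mat52 : Type := Matrix (Fin 52) (Fin 52) (ZMod 3)

theorem small_mat {r : ℕ} (hr : r < 48) : Small (mat r) := by
  have h := checkSmall_true
  simp only [checkSmall, List.all_eq_true, List.mem_range, beq_iff_eq] at h
  intro i hi
  have := red_spec (x := mat r) hi
  rw [h r hr] at this
  omega

theorem scalar_fields : ((List.range 2704).all fun i => decide (fld oneP i = if i % 53 = 0 then 1 else 0) &&
    decide (fld negP i = if i % 53 = 0 then 2 else 0)) = true := by decide +kernel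

theorem scalar_facts {i : ℕ} (hi : i < 2704) :
    fld oneP i = (if i % 53 = 0 then 1 else 0) ∧ fld negP i = (if i % 53 = 0 then 2 else 0) := by
  have h := scalar_fields
  simp only [List.all_eq_true, List.mem_range, Bool.and_eq_true, decide_eq_true_eq] at h
  exact h i hi

theorem small_oneP : Small oneP := fun i hi => by
  rw [(scalar_facts hi).1]; split_ifs <;> omega

theorem small_negP : Small negP := fun i hi => by
  rw [(scalar_facts hi).2]; split_ifs <;> omega

theorem dec_oneP : dec oneP = 1 := by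
  ext i j
  rw [dec, (scalar_facts (show 52 * i.val + j.val < 2704 by omega)).1, Matrix.one_apply]
  by_cases h : i = j
  · subst h; rw [if_pos rfl, if_pos (by omega), Nat.cast_one]
  · rw [if_neg h, if_neg (fun e => h (Fin.ext (by omega))), Nat.cast_zero]

theorem dec_negP : dec negP = -1 := by
  ext i j
  rw [dec, (scalar_facts (show 52 * i.val + j.val < 2704 by omega)).2, Matrix.neg_apply, Matrix.one_apply]
  by_cases h : i = j
  · subst h; rw [if_pos rfl, if_pos (by omega)]; decide
  · rw [if_neg h, if_neg (fun e => h (Fin.ext (by omega))), neg_zero, Nat.cast_zero]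

theorem small_wordP : ∀ {w : List ℕ}, (∀ r ∈ w, r < 48) → Small (wordP w)
  | [], _ => small_oneP
  | [r], h => small_mat (h r List.mem_cons_self)
  | r :: s :: l, _ => small_mulP _ _

theorem dec_wordP : ∀ {w : List ℕ}, (∀ r ∈ w, r < 48) → dec (wordP w) = (w.map fun r => dec (mat r)).prod
  | [], _ => by rw [wordP, dec_oneP]; rfl
  | [r], _ => by simp [wordP]
  | r :: s :: l, h => by
    rw [wordP, dec_mulP (small_mat (h r List.mem_cons_self))
      (small_wordP fun a ha => h a (List.mem_cons_of_mem _ ha)),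
      dec_wordP fun a ha => h a (List.mem_cons_of_mem _ ha)]
    · simp
    · simp

theorem eq_sign_spec {a b : ℕ} (hb : Small b) (h : eqSign a b = true) : dec a = dec b ∨ dec a = -dec b := by
  simp only [eqSign, Bool.or_eq_true, beq_iff_eq] at h
  rcases h with rfl | rfl
  · exact Or.inl rfl
  · right; rw [dec_mulP small_negP hb, dec_negP, neg_one_mul]

theorem sq_mat {r : ℕ} (hr : r < 48) : dec (mat r) * dec (mat r) = 1 ∨ dec (mat r) * dec (mat r) = -1 := by
  have h := checkSq_true
  simp only [checkSq, List.all_eq_true, List.mem_range] at h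
  have := eq_sign_spec small_oneP (h r hr)
  rwa [dec_mulP (small_mat hr) (small_mat hr), dec_oneP] at this

/-- The lift of `x_r(1)`. -/
noncomputable def Y (r : ℕ) : Mat52ˣ :=
  if hr : r < 48 then
    if h : dec (mat r) * dec (mat r) = 1 then ⟨dec (mat r), dec (mat r), h, h⟩
    else ⟨dec (mat r), -dec (mat r),
      by rw [mul_neg, (sq_mat hr).resolve_left h, _root_.neg_neg],
      by rw [neg_mul, (sq_mat hr).resolve_left h, _root_.neg_neg]⟩
  else 1

theorem coe_Y {r : ℕ} (hr : r < 48) : (Y r : Mat52) = dec (mat r) := by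
  rw [Y, dif_pos hr]
  split_ifs <;> rfl

theorem coe_wordY {w : List ℕ} (h : ∀ r ∈ w, r < 48) : (((w.map Y).prod : Mat52ˣ) : Mat52) = dec (wordP w) := by
  rw [dec_wordP h, ← Units.coeHom_apply, map_list_prod, List.map_map]
  exact congrArg List.prod (List.map_congr_left fun r hr => coe_Y (h r hr))

section signs

variable {R : Type*} [Ring R]

/-- The group of the two scalars. -/
abbrev signs (R : Type*) [Ring R] : Subgroup Rˣ := Subgroup.zpowers (-1)

theorem neg_comm (g : Rˣ) : g * (-1) = (-1) * g := by rw [mul_neg_one, neg_one_mul]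

instance signs_normal : (signs R).Normal := ⟨fun x hx g => by
  obtain ⟨m, rfl⟩ := Subgroup.mem_zpowers_iff.1 hx
  rw [((show Commute g (-1) from neg_comm g).zpow_right m).eq, mul_inv_cancel_right]
  exact zpow_mem (Subgroup.mem_zpowers _) m⟩

theorem mk_eq_of_sign {g h : Rˣ} (e : (g : R) = h ∨ (g : R) = -h) : (g : Rˣ ⧸ signs R) = h := by
  rw [QuotientGroup.eq]
  rcases e with e | e
  · rw [Units.ext e, inv_mul_cancel]; exact one_mem _
  · rw [show g = -h from Units.ext (e.trans (Units.val_neg h).symm), inv_neg, neg_mul, inv_mul_cancel]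
    exact Subgroup.mem_zpowers _

theorem kappa_eq (a b : Rˣ) : a * b * (-a * b)⁻¹ = -1 := by
  rw [neg_mul, inv_neg, mul_neg, mul_inv_cancel]

theorem orderOf_negOne (h : (-1 : R) ≠ 1) : orderOf (-1 : Rˣ) = 2 := by
  haveI : Fact (Nat.Prime 2) := ⟨Nat.prime_two⟩
  exact orderOf_eq_prime (by rw [neg_one_sq]) fun e => h (congrArg Units.val e)

end signs

/-- The group of the two scalar matrices. -/
abbrev Zc : Subgroup Mat52ˣ := signs Mat52

theorem negOne_ne : (-1 : Mat52) ≠ 1 := fun h => by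
  have h' := congrFun (congrFun h 0) 0
  rw [Matrix.neg_apply, Matrix.one_apply_eq] at h'
  exact absurd h' (by decide)

theorem mk_list_prod {G α : Type*} [Group G] (N : Subgroup G) [N.Normal] (f : α → G) :
    ∀ l : List α, (((l.map f).prod : G) : G ⧸ N) = (l.map fun a => (f a : G ⧸ N)).prod
  | [] => rfl
  | a :: l => by
    rw [List.map_cons, List.prod_cons, QuotientGroup.mk_mul, mk_list_prod N f l, List.map_cons, List.prod_cons]

theorem wt_facts {r s : ℕ} (hr : r < 48) (hs : s < 48) (h₁ : s ≠ r) (h₂ : s ≠ chevF4.neg r) :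
    ((chevF4.commTerms r s).filterMap fun c => if c.2.1 % 2 = 0 then none else some c.1) = wt r s ∧
      ∀ k ∈ wt r s, k < 48 := by
  have h := checkTab_true
  simp only [checkTab, List.all_eq_true, List.mem_range, Bool.or_eq_true, Bool.and_eq_true, decide_eq_true_eq,
    beq_iff_eq] at h
  exact (h r hr s hs).resolve_left (by tauto)

theorem field_two {F : Type*} [Field F] [Fintype F] (hF : Fintype.card F = 2) (t : F) : t = 0 ∨ t = 1 := by
  classical
  by_contra h
  rw [not_or] at h
  have : ({0, 1, t} : Finset F).card = 3 := Finset.card_eq_three.2 ⟨0, 1, t, zero_ne_one, Ne.symm h.1, Ne.symm h.2, rfl⟩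
  have := Finset.card_le_univ ({0, 1, t} : Finset F)
  omega

/-- Elements satisfying the relations over the field with two elements give a homomorphism. -/
theorem hom_of_rels {F : Type u} [Field F] [Fintype F] (hF : Fintype.card F = 2) {Q : Type*} [Group Q] (Yq : ℕ → Q)
    (hsq : ∀ r < 48, Yq r * Yq r = 1)
    (hcomm : ∀ r s, r < 48 → s < 48 → s ≠ r → s ≠ chevF4.neg r → Yq s * Yq r = Yq r * Yq s * ((wt r s).map Yq).prod) :
    ∃ φ : chevF4.SteinbergCover F →* Q, ∀ r < 48, φ (chevF4.scGen F r 1) = Yq r := by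
  classical
  haveI : Fact (Nat.Prime 2) := ⟨Nat.prime_two⟩
  haveI : CharP F 2 := charP_of_card_eq_prime (R := F) hF
  let g : Fin chevF4.nroots × F → Q := fun z => if z.2 = 0 then 1 else Yq z.1.val
  have hstX : ∀ (r : ℕ) (t : F), r < 48 →
      FreeGroup.lift g (chevF4.stX r t) = if t = 0 then 1 else Yq r := fun r t hr => by
    simp [ChevalleyDatum.stX, show r < chevF4.nroots from hr, g]
  have hword : ∀ (r s : ℕ), r < 48 → s < 48 → s ≠ r → s ≠ chevF4.neg r →
      FreeGroup.lift g (chevF4.stWord (chevF4.commWord F r s 1 1)) = ((wt r s).map Yq).prod := by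
    intro r s hr hs h₁ h₂
    obtain ⟨hw, hlt⟩ := wt_facts hr hs h₁ h₂
    rw [← hw] at hlt ⊢
    simp only [ChevalleyDatum.commWord]
    generalize chevF4.commTerms r s = T at hlt
    induction T with
    | nil => simp [ChevalleyDatum.stWord]
    | cons c T ih =>
      have hcoef : ((c.2.1 : F) * (-1) ^ c.2.2.1 * 1 ^ c.2.2.2 = 0) ↔ c.2.1 % 2 = 0 := by
        rw [CharTwo.neg_eq, one_pow, one_pow, mul_one, mul_one, CharP.intCast_eq_zero_iff F 2]
        omega
      simp only [ChevalleyDatum.stWord, List.map_cons, List.prod_cons, map_mul, List.filterMap_cons] at ih hlt ⊢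
      by_cases hc : c.2.1 % 2 = 0
      · rw [if_pos hc] at hlt ⊢
        rw [ih hlt]
        by_cases hk : c.1 < 48
        · rw [hstX _ _ hk, if_pos (hcoef.2 hc), one_mul]
        · simp [ChevalleyDatum.stX, show ¬ c.1 < chevF4.nroots from hk]
      · rw [if_neg hc] at hlt ⊢
        rw [ih fun k hk => hlt k (List.mem_cons_of_mem _ hk), hstX _ _ (hlt c.1 List.mem_cons_self),
          if_neg (mt hcoef.1 hc)]
        simp
  have hrel : ∀ x ∈ chevF4.steinbergRelsAB F, FreeGroup.lift g x = 1 := by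
    rintro x (⟨r, t₁, t₂, hr, rfl⟩ | ⟨r, s, t, u, hr, hs, h₁, h₂, rfl⟩)
    · have hr' : r < 48 := hr
      rw [map_mul, map_mul, map_inv, hstX r t₁ hr', hstX r t₂ hr', hstX r _ hr']
      rcases field_two hF t₁ with rfl | rfl <;> rcases field_two hF t₂ with rfl | rfl <;>
        simp [CharTwo.add_self_eq_zero, hsq r hr']
    · have hr' : r < 48 := hr
      have hs' : s < 48 := hs
      simp only [map_mul, map_inv, hstX r t hr', hstX s u hs']
      have hW0 : t = 0 ∨ u = 0 → FreeGroup.lift g (chevF4.stWord (chevF4.commWord F r s t u)) = 1 := by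
        intro h0
        have hexp : ∀ c ∈ chevF4.commTerms r s, 1 ≤ c.2.2.1 ∧ 1 ≤ c.2.2.2 := by
          intro c hc
          simp only [ChevalleyDatum.commTerms, List.mem_filterMap, Option.map_eq_some_iff] at hc
          obtain ⟨a, ha, k, -, rfl⟩ := hc
          simp only [List.mem_cons, List.not_mem_nil, or_false] at ha
          rcases ha with rfl | rfl | rfl | rfl | rfl | rfl | rfl <;> simp
        simp only [ChevalleyDatum.stWord, ChevalleyDatum.commWord, List.map_map, map_list_prod]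
        refine List.prod_eq_one fun y hy => ?_
        obtain ⟨c, hc, rfl⟩ := List.mem_map.1 hy
        obtain ⟨hi, hj⟩ := hexp c hc
        have hz : (c.2.1 : F) * (-t) ^ c.2.2.1 * u ^ c.2.2.2 = 0 := by
          rcases h0 with rfl | rfl
          · rw [_root_.neg_zero, zero_pow (by omega), mul_zero, zero_mul]
          · rw [zero_pow (by omega), mul_zero]
        show FreeGroup.lift g (chevF4.stX c.1 ((c.2.1 : F) * (-t) ^ c.2.2.1 * u ^ c.2.2.2)) = 1
        rw [hz]
        by_cases hk : c.1 < 48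
        · rw [hstX _ _ hk, if_pos rfl]
        · simp [ChevalleyDatum.stX, show ¬ c.1 < chevF4.nroots from hk]
      rcases field_two hF t with rfl | rfl
      · rw [hW0 (Or.inl rfl)]; by_cases hu : u = 0 <;> simp [hu]
      rcases field_two hF u with rfl | rfl
      · rw [hW0 (Or.inr rfl)]; simp
      rw [hword r s hr' hs' h₁ h₂, if_neg one_ne_zero, if_neg one_ne_zero]
      rw [mul_inv_eq_one, mul_assoc, hcomm r s hr' hs' h₁ h₂]
      group
  let φ : chevF4.SteinbergCover F →* Q := PresentedGroup.toGroup hrel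
  exact ⟨φ, fun r hr => (show φ (chevF4.scGen F r 1) = FreeGroup.lift g (chevF4.stX r 1) from rfl).trans
    ((hstX r 1 hr).trans (if_neg one_ne_zero))⟩

/-- The projective representation. -/
theorem exists_hom {F : Type u} [Field F] [Fintype F] (hF : Fintype.card F = 2) :
    ∃ φ : chevF4.SteinbergCover F →* Mat52ˣ ⧸ Zc, ∀ r < 48, φ (chevF4.scGen F r 1) = (Y r : Mat52ˣ ⧸ Zc) := by
  refine hom_of_rels hF (fun r => (Y r : Mat52ˣ ⧸ Zc)) (fun r hr => ?_) fun r s hr hs h₁ h₂ => ?_
  · rw [← QuotientGroup.mk_mul, ← QuotientGroup.mk_one]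
    refine mk_eq_of_sign ?_
    rw [Units.val_mul, coe_Y hr, Units.val_one]
    exact sq_mat hr
  · have h := checkRel_true hr
    simp only [checkRel, List.all_eq_true, List.mem_range, Bool.or_eq_true, decide_eq_true_eq] at h
    have hall : ∀ k ∈ [r, s] ++ wt r s, k < 48 := by
      intro k hk
      rcases List.mem_append.1 hk with hk | hk
      · simp only [List.mem_cons, List.not_mem_nil, or_false] at hk
        rcases hk with rfl | rfl
        exacts [hr, hs]
      · exact (wt_facts hr hs h₁ h₂).2 k hk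
    have hall' : ∀ k ∈ [s, r], k < 48 := by simp [hr, hs]
    have key := mk_eq_of_sign (g := (([s, r] : List ℕ).map Y).prod) (h := (([r, s] ++ wt r s).map Y).prod)
      (by rw [coe_wordY hall', coe_wordY hall]
          exact eq_sign_spec (small_wordP hall) ((h s hs).resolve_left (by tauto)))
    simp only [List.map_cons, List.map_append, List.map_nil, List.prod_cons, List.prod_append, List.prod_nil,
      mul_one, QuotientGroup.mk_mul] at key
    rw [key]
    rw [mk_list_prod]

/-- The commutators of root elements in the covering group, in characteristic two. -/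
theorem scGen_comm {F : Type u} [Field F] [Fintype F] (hF : Fintype.card F = 2) {r s : ℕ} {L : List ℕ}
    (hL : wt r s = L) (hr : r < 48) (hs : s < 48) (h₁ : s ≠ r) (h₂ : s ≠ chevF4.neg r) :
    (chevF4.scGen F s 1)⁻¹ * (chevF4.scGen F r 1)⁻¹ * chevF4.scGen F s 1 * chevF4.scGen F r 1 =
      (L.map fun k => chevF4.scGen F k 1).prod := by
  haveI : Fact (Nat.Prime 2) := ⟨Nat.prime_two⟩
  haveI : CharP F 2 := charP_of_card_eq_prime (R := F) hF
  have h := PresentedGroup.one_of_mem (rels := chevF4.steinbergRelsAB F)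
    (Or.inr ⟨r, s, (1 : F), 1, hr, hs, h₁, h₂, rfl⟩)
  simp only [map_mul, map_inv, mul_inv_eq_one] at h
  refine Eq.trans h ?_
  obtain ⟨hw, -⟩ := wt_facts hr hs h₁ h₂
  rw [← hL, ← hw]
  simp only [ChevalleyDatum.commWord]
  generalize chevF4.commTerms r s = T
  induction T with
  | nil => simp [ChevalleyDatum.stWord]
  | cons c T ih =>
    have hcoef : ((c.2.1 : F) * (-1) ^ c.2.2.1 * 1 ^ c.2.2.2 = 0) ↔ c.2.1 % 2 = 0 := by
      rw [CharTwo.neg_eq, one_pow, one_pow, mul_one, mul_one, CharP.intCast_eq_zero_iff F 2]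
      omega
    simp only [ChevalleyDatum.stWord, List.map_cons, List.prod_cons, map_mul, List.filterMap_cons] at ih ⊢
    rw [ih]
    by_cases hcc : c.2.1 % 2 = 0
    · rw [if_pos hcc, hcoef.2 hcc]
      by_cases hk : c.1 < 48
      · have h := PresentedGroup.one_of_mem (rels := chevF4.steinbergRelsAB F)
          (Or.inl ⟨c.1, (0 : F), 0, hk, rfl⟩)
        simp only [add_zero, map_mul, map_inv, mul_inv_cancel_right] at h
        rw [h, one_mul]
      · simp [ChevalleyDatum.stX, show ¬ c.1 < chevF4.nroots from hk]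
    · rw [if_neg hcc, List.map_cons, List.prod_cons, ((field_two hF _).resolve_left (mt hcoef.1 hcc))]
      rfl

/-- The pullback of a projective representation is a stem extension when a commutator product lifts to `-1`. -/
theorem stem_of_hom {E : Type u} [Group E] [Finite E] {R : Type} [Ring R] [Finite R] (hR : (-1 : R) ≠ 1)
    (φ : E →* Rˣ ⧸ signs R) (y : ℕ → E) (Yv : ℕ → Rˣ) {n : ℕ}
    (hy : ∀ r < n, φ (y r) = (Yv r : Rˣ ⧸ signs R))
    (a b a' b' a'' b'' : ℕ) (hn : a < n ∧ b < n ∧ a' < n ∧ b' < n ∧ a'' < n ∧ b'' < n)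
    (h1 : ⁅(y a)⁻¹, (y b)⁻¹⁆ * (⁅(y a')⁻¹, (y b')⁻¹⁆ * ⁅(y a'')⁻¹, (y b'')⁻¹⁆)⁻¹ = 1)
    (h2 : ⁅(Yv a)⁻¹, (Yv b)⁻¹⁆ * (⁅(Yv a')⁻¹, (Yv b')⁻¹⁆ * ⁅(Yv a'')⁻¹, (Yv b'')⁻¹⁆)⁻¹ = -1) :
    ∃ (Γ : Type u) (_ : Group Γ) (_ : Finite Γ) (σ : Γ →* E), Cfsg.IsStemExtension σ ∧ Nat.card σ.ker = 2 := by
  let P : Subgroup (E × Rˣ) :=
    MonoidHom.eqLocus (φ.comp (MonoidHom.fst _ Rˣ)) ((QuotientGroup.mk' (signs R)).comp (MonoidHom.snd _ Rˣ))
  let σ : P →* E := (MonoidHom.fst _ _).comp P.subtype
  have hker : ∀ x : P, x ∈ σ.ker ↔ x.1.1 = 1 := fun x => Iff.rfl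
  have hsnd : ∀ x : P, x ∈ σ.ker → x.1.2 ∈ signs R := fun x hx => by
    have h : φ x.1.1 = ((x.1.2 : Rˣ) : Rˣ ⧸ signs R) := x.2
    rw [(hker x).1 hx, map_one] at h
    exact (QuotientGroup.eq_one_iff _).1 h.symm
  let ι : σ.ker → signs R := fun x => ⟨x.1.1.2, hsnd x.1 x.2⟩
  have hι : Function.Bijective ι := by
    refine ⟨fun x y h => Subtype.ext (Subtype.ext (Prod.ext ?_ ?_)), fun z => ?_⟩
    · rw [(hker x.1).1 x.2, (hker y.1).1 y.2]
    · exact congrArg Subtype.val h
    · exact ⟨⟨⟨(1, z.1), show φ 1 = ((z.1 : Rˣ) : Rˣ ⧸ signs R) by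
        rw [map_one, eq_comm, QuotientGroup.eq_one_iff]; exact z.2⟩, rfl⟩, rfl⟩
  refine ⟨P, inferInstance, inferInstance, σ, ⟨?_, ?_, ?_⟩, ?_⟩
  · intro e
    obtain ⟨d, hd⟩ := QuotientGroup.mk_surjective (φ e)
    exact ⟨⟨(e, d), hd.symm⟩, rfl⟩
  · intro x hx
    rw [Subgroup.mem_center_iff]
    intro w
    refine Subtype.ext (Prod.ext ?_ ?_)
    · show w.1.1 * x.1.1 = x.1.1 * w.1.1
      rw [(hker x).1 hx, one_mul, mul_one]
    · show w.1.2 * x.1.2 = x.1.2 * w.1.2
      obtain ⟨m, hm⟩ := Subgroup.mem_zpowers_iff.1 (hsnd x hx)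
      rw [← hm]
      exact ((show Commute w.1.2 (-1) from neg_comm w.1.2).zpow_right m).eq
  · obtain ⟨ha, hb, ha', hb', ha'', hb''⟩ := hn
    let p : (r : ℕ) → r < n → P := fun r hr => ⟨(y r, Yv r), hy r hr⟩
    let κ : P := ⁅(p a ha)⁻¹, (p b hb)⁻¹⁆ * (⁅(p a' ha')⁻¹, (p b' hb')⁻¹⁆ * ⁅(p a'' ha'')⁻¹, (p b'' hb'')⁻¹⁆)⁻¹
    have hk : κ.1 = (1, -1) := Prod.ext h1 h2
    intro x hx
    obtain ⟨m, hm⟩ := Subgroup.mem_zpowers_iff.1 (hsnd x hx)
    have hxm : x = κ ^ m := by
      refine Subtype.ext ?_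
      rw [Subgroup.coe_zpow, hk]
      exact Prod.ext (by simp [(hker x).1 hx]) (by simp [hm])
    rw [hxm]
    have hc : ∀ u v : P, ⁅u, v⁆ ∈ commutator P := fun u v =>
      Subgroup.commutator_mem_commutator (Subgroup.mem_top _) (Subgroup.mem_top _)
    exact zpow_mem (mul_mem (hc _ _) (inv_mem (mul_mem (hc _ _) (hc _ _)))) m
  · rw [Nat.card_eq_of_bijective ι hι, Nat.card_zpowers, orderOf_negOne hR]

/-- There is a stem extension of the covering group of `F₄(2)` with kernel of order two. -/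
theorem exists_cover_two {F : Type u} [Field F] [Fintype F] (hF : Fintype.card F = 2)
    [Finite (chevF4.SteinbergCover F)] :
    ∃ (Γ : Type u) (_ : Group Γ) (_ : Finite Γ) (σ : Γ →* chevF4.SteinbergCover F),
      Cfsg.IsStemExtension σ ∧ Nat.card σ.ker = 2 := by
  obtain ⟨φ, hφ⟩ := exists_hom hF
  have h := checkDev_true
  simp only [checkDev, Bool.and_eq_true, beq_iff_eq] at h
  obtain ⟨⟨⟨⟨⟨e1, e2⟩, e3⟩, w1⟩, w2⟩, w3⟩ := h
  rw [w1] at e1
  rw [w2] at e2
  rw [w3] at e3
  have hu : ∀ (r s : ℕ) (X : Mat52ˣ), Y s * Y r = Y r * Y s * X → ⁅(Y s)⁻¹, (Y r)⁻¹⁆ = X := fun r s X h => by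
    rw [commutatorElement_def, inv_inv, inv_inv, mul_assoc, h]
    group
  have v1 : ⁅(Y 29)⁻¹, (Y 0)⁻¹⁆ = Y 3 * Y 6 := hu 0 29 _ <| Units.ext <| by
    have a := coe_wordY (w := [29, 0]) (by decide)
    have b := coe_wordY (w := [0, 29] ++ [3, 6]) (by decide)
    rw [e1, ← b] at a
    simpa [mul_assoc] using a
  have v2 : ⁅(Y 14)⁻¹, (Y 7)⁻¹⁆ = -Y 3 := hu 7 14 _ <| Units.ext <| by
    have a := coe_wordY (w := [14, 7]) (by decide)
    have b := coe_wordY (w := [7, 14] ++ [3]) (by decide)
    rw [e2, dec_mulP small_negP (small_wordP (by decide)), dec_negP, ← b] at a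
    simpa [mul_assoc] using a
  have v3 : ⁅(Y 32)⁻¹, (Y 1)⁻¹⁆ = Y 6 := hu 1 32 _ <| Units.ext <| by
    have a := coe_wordY (w := [32, 1]) (by decide)
    have b := coe_wordY (w := [1, 32] ++ [6]) (by decide)
    rw [e3, ← b] at a
    simpa [mul_assoc] using a
  refine stem_of_hom negOne_ne φ (fun r => chevF4.scGen F r 1) Y hφ 29 0 14 7 32 1
    (by norm_num) ?_ ?_
  · simp only [commutatorElement_def, inv_inv]
    rw [scGen_comm hF w1 (by norm_num) (by norm_num) (by norm_num) (by decide +kernel),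
      scGen_comm hF w2 (by norm_num) (by norm_num) (by norm_num) (by decide +kernel),
      scGen_comm hF w3 (by norm_num) (by norm_num) (by norm_num) (by decide +kernel)]
    simp [mul_assoc]
  · rw [v1, v2, v3]
    exact kappa_eq _ _

end Cfsg.Agent.F4Cover
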