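/-
An upper bound for the stem extensions of `F₄(2)`.

* `bound_two`: the kernel of a stem extension is generated by one element of square one.
-/
import Cfsg.Agent.Lib.F4Cover.Model
import Cfsg.Agent.Lib.F4Cover.BoundCheck
import Cfsg.Agent.Lib.ChevSt.Universal

set_option autoImplicit false
set_option maxRecDepth 100000
set_option linter.style.haveILetI false

universe u

namespace Cfsg.Agent.F4Cover

open Cfsg.Lie Cfsg.Lie.ChevalleyDatum Cfsg.Agent.ChevSt
open scoped commutatorElement

theorem neg_eq : ((List.range 48).all fun r => chevF4.neg r == 47 - r) = true := by decide +kernel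

theorem neg_f4 {r : ℕ} (hr : r < 48) : chevF4.neg r = 47 - r := by
  have h := neg_eq
  simp only [List.all_eq_true, List.mem_range, beq_iff_eq] at h
  exact h r hr

theorem ok_pair {a b : ℕ} (ha : a < 48) (hb : b < 48) (h₁ : b ≠ a) (h₂ : b ≠ chevF4.neg a) :
    sysF4.okK (keyOf a b) = true ∧ sysF4.rule (keyOf a b) = ([b, a], [a, b] ++ wt a b) := by
  rw [neg_f4 ha] at h₂
  have e1 : (keyOf a b - 48) / 48 = a := by simp only [keyOf]; omega
  have e2 : (keyOf a b - 48) % 48 = b := by simp only [keyOf]; omega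
  constructor
  · show decide _ = true
    rw [decide_eq_true_eq, e1, e2]
    simp only [keyOf]
    omega
  · show (if _ then _ else _) = _
    rw [if_neg (by simp only [keyOf]; omega), e1, e2]

theorem of_ok {k : ℕ} (h : sysF4.okK k = true) : k < 48 ∨ ∃ a b, a < 48 ∧ b < 48 ∧ b ≠ a ∧
    b ≠ chevF4.neg a ∧ k = keyOf a b := by
  have h' := of_decide_eq_true (show decide _ = true from h)
  rcases h' with h' | ⟨h1, h2, h3⟩
  · exact Or.inl h'
  by_cases hk : k < 48
  · exact Or.inl hk
  refine Or.inr ⟨(k - 48) / 48, (k - 48) % 48, by omega, by omega, h2, ?_, by simp only [keyOf]; omega⟩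
  rw [neg_f4 (by omega)]
  omega

theorem lift_relation {Γ E : Type*} [Group Γ] [Group E] {σ : Γ →* E} (hc : σ.ker ≤ Subgroup.center Γ)
    {A A' B B' : Γ} (hA : σ A = σ A') (hB : σ B = σ B') : A' * B' * ((A * B)⁻¹ * (B * A)) = B' * A' := by
  have h := comm_congr hc (A := B⁻¹) (A' := B'⁻¹) (B := A⁻¹) (B' := A'⁻¹) (by rw [map_inv, map_inv, hB])
    (by rw [map_inv, map_inv, hA])
  calc A' * B' * ((A * B)⁻¹ * (B * A)) = A' * B' * (B⁻¹ * A⁻¹ * B⁻¹⁻¹ * A⁻¹⁻¹) := by group
    _ = B' * A' := by rw [h]; group

/-- The kernel of a stem extension of the covering group of `F₄(2)` is generated by an element of square one. -/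
theorem bound_two {F : Type u} [Field F] [Fintype F] (hF : Fintype.card F = 2)
    {Γ : Type u} [Group Γ] (σ : Γ →* chevF4.SteinbergCover F) (hσ : Cfsg.IsStemExtension σ) :
    ∃ c ∈ σ.ker, c ^ 2 = 1 ∧ σ.ker ≤ Subgroup.zpowers c := by
  classical
  obtain ⟨hp, hc, hcomm⟩ := hσ
  haveI : Fact (Nat.Prime 2) := ⟨Nat.prime_two⟩
  haveI : CharP F 2 := charP_of_card_eq_prime (R := F) hF
  set x : ℕ → chevF4.SteinbergCover F := fun r => chevF4.scGen F r 1
  have hsq : ∀ r < 48, x r * x r = 1 := by
    intro r hr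
    have h := PresentedGroup.one_of_mem (rels := chevF4.steinbergRelsAB F) (Or.inl ⟨r, (1 : F), 1, hr, rfl⟩)
    have h0 := PresentedGroup.one_of_mem (rels := chevF4.steinbergRelsAB F) (Or.inl ⟨r, (0 : F), 0, hr, rfl⟩)
    simp only [add_zero, map_mul, map_inv, mul_inv_cancel_right] at h0
    simp only [CharTwo.add_self_eq_zero, map_mul, map_inv, h0, inv_one, mul_one] at h
    exact h
  have hx : ∀ r s, r < 48 → s < 48 → s ≠ r → s ≠ chevF4.neg r →
      x s * x r = x r * x s * ((wt r s).map x).prod := fun r s hr hs h₁ h₂ => by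
    show chevF4.scGen F s 1 * chevF4.scGen F r 1 =
      chevF4.scGen F r 1 * chevF4.scGen F s 1 * ((wt r s).map fun k => chevF4.scGen F k 1).prod
    rw [← scGen_comm hF rfl hr hs h₁ h₂]
    group
  choose a ha using fun r => hp (x r)
  let y : ℕ → Γ := fun r =>
    (a (defPair.getD r (0, 0)).1 * a (defPair.getD r (0, 0)).2)⁻¹ *
      (a (defPair.getD r (0, 0)).2 * a (defPair.getD r (0, 0)).1)
  have hdef : ∀ r < 48, (defPair.getD r (0, 0)).1 < 48 ∧ (defPair.getD r (0, 0)).2 < 48 ∧
      wt (defPair.getD r (0, 0)).1 (defPair.getD r (0, 0)).2 = [r] ∧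
      (defPair.getD r (0, 0)).2 ≠ (defPair.getD r (0, 0)).1 ∧
      (defPair.getD r (0, 0)).2 ≠ chevF4.neg (defPair.getD r (0, 0)).1 := by
    intro r hr
    have h := check_def
    simp only [List.all_eq_true, List.mem_range, Bool.and_eq_true, decide_eq_true_eq, beq_iff_eq] at h
    obtain ⟨⟨⟨h1, h2⟩, h3⟩, h4⟩ := h r hr
    refine ⟨h1, h2, h3, ?_⟩
    rcases of_ok h4 with hk | ⟨u, v, hu, hv, e1, e2, e⟩
    · simp only [keyOf] at hk; omega
    · have hu' : u = (defPair.getD r (0, 0)).1 := by simp only [keyOf] at e; omega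
      have hv' : v = (defPair.getD r (0, 0)).2 := by simp only [keyOf] at e; omega
      rw [← hu', ← hv']
      exact ⟨e1, e2⟩
  have py : ∀ r < 48, σ (y r) = x r := by
    intro r hr
    obtain ⟨h1, h2, h3, h4, h5⟩ := hdef r hr
    have h := hx _ _ h1 h2 h4 h5
    rw [h3, List.map_singleton, List.prod_singleton] at h
    simp only [y, map_mul, map_inv, ha, h, inv_mul_cancel_left]
  have hwv : ∀ w : List ℕ, (∀ r ∈ w, r < 48) → σ (wv y w) = (w.map x).prod := by
    intro w hw
    rw [wv, map_list_prod, List.map_map]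
    exact congrArg List.prod (List.map_congr_left fun r hr => py r (hw r hr))
  have himg : ∀ k, sysF4.okK k = true → σ (wv y (sysF4.rule k).1) = σ (wv y (sysF4.rule k).2) := by
    intro k hk
    rcases of_ok hk with hk' | ⟨u, v, hu, hv, e1, e2, rfl⟩
    · rw [show sysF4.rule k = ([k, k], []) from if_pos hk', hwv _ (by simp [hk']), hwv _ (by simp)]
      simpa using hsq k hk'
    · rw [(ok_pair hu hv e1 e2).2, hwv _ (by simp [hu, hv]), hwv _ (fun r hr => by
        rcases List.mem_append.1 hr with h | h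
        · simp only [List.mem_cons, List.not_mem_nil, or_false] at h
          rcases h with rfl | rfl
          exacts [hu, hv]
        · exact (wt_facts hu hv e1 e2).2 r h)]
      simpa [mul_assoc] using hx u v hu hv e1 e2
  have hk : ∀ k, sysF4.okK k = true → (wv y (sysF4.rule k).2)⁻¹ * wv y (sysF4.rule k).1 ∈ σ.ker := fun k hk => by
    rw [MonoidHom.mem_ker, map_mul, map_inv, himg k hk, inv_mul_cancel]
  let t : ℕ → Subgroup.center Γ := fun k =>
    if h : sysF4.okK k = true then ⟨(wv y (sysF4.rule k).2)⁻¹ * wv y (sysF4.rule k).1, hc (hk k h)⟩ else 1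
  have htk : ∀ k, (t k : Γ) ∈ σ.ker := fun k => by
    simp only [t]
    split_ifs with h
    · exact hk k h
    · exact one_mem _
  have hold : Holds sysF4 y t := fun k h => by simp only [t, dif_pos h, mul_inv_cancel_left]
  set c : Subgroup.center Γ := t keyGen with hcdef
  have hstart : ∀ j, (knownMasks.getD 0 0).testBit j = true → t j = c ^ mval posMask negMask j := by
    have h := check_start
    simp only [Bool.and_eq_true, beq_iff_eq, List.all_eq_true] at h
    obtain ⟨⟨hm, hg⟩, hz⟩ := h
    intro j hj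
    rw [← hm, startMask] at hj
    have key : ∀ L : List (ℕ × ℕ), ((L.map fun p => keyOf p.1 p.2).foldr (fun k m => (1 <<< k) ||| m) (1 <<< keyGen)).testBit j = true →
        j = keyGen ∨ ∃ p ∈ L, j = keyOf p.1 p.2 := by
      intro L
      induction L with
      | nil =>
        intro h
        simp only [List.map_nil, List.foldr_nil, Nat.one_shiftLeft, Nat.testBit_two_pow, decide_eq_true_eq] at h
        exact Or.inl h.symm
      | cons p L ih =>
        intro h
        simp only [List.map_cons, List.foldr_cons, Nat.testBit_or, Bool.or_eq_true, Nat.one_shiftLeft,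
          Nat.testBit_two_pow, decide_eq_true_eq] at h
        rcases h with h | h
        · exact Or.inr ⟨p, List.mem_cons_self, h.symm⟩
        · rcases ih (by simpa [Nat.one_shiftLeft] using h) with h | ⟨q, hq, hq'⟩
          · exact Or.inl h
          · exact Or.inr ⟨q, List.mem_cons_of_mem _ hq, hq'⟩
    rcases key _ hj with rfl | ⟨p, hp', rfl⟩
    · rw [hg, zpow_one]
    · rw [hz p hp', zpow_zero]
      obtain ⟨r, hr, hr2⟩ := List.mem_iff_getElem.1 hp'
      have hr' : r < 48 := by simpa [defPair] using hr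
      have hp2 : p = defPair.getD r (0, 0) := (hr2.symm.trans (List.getD_eq_getElem _ _ hr).symm)
      obtain ⟨h1, h2, h3, h4, h5⟩ := hdef r hr'
      rw [← hp2] at h1 h2 h3 h4 h5
      refine Subtype.ext ?_
      simp only [t, dif_pos (ok_pair h1 h2 h4 h5).1, (ok_pair h1 h2 h4 h5).2, h3, Subgroup.coe_one, wv,
        List.map_append, List.map_cons, List.map_nil, List.prod_append, List.prod_cons, List.prod_nil, mul_one]
      rw [inv_mul_eq_one, show y r = (a p.1 * a p.2)⁻¹ * (a p.2 * a p.1) by rw [hp2]]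
      exact lift_relation hc ((ha _).trans (py _ h1).symm) ((ha _).trans (py _ h2).symm)
  have hlink : ∀ (l : List (ℕ × Ovl)) (i : ℕ), link l i = true →
      (∀ j, (knownMasks.getD i 0).testBit j = true → t j = c ^ mval posMask negMask j) →
      ∀ j, (knownMasks.getD (i + 1) 0).testBit j = true → t j = c ^ mval posMask negMask j := fun l i h hi =>
    derive_sound hold l _ _ hi (by simpa [link] using h)
  have hall := hlink _ _ check_chain11 (hlink _ _ check_chain10 (hlink _ _ check_chain9 (hlink _ _ check_chain8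
    (hlink _ _ check_chain7 (hlink _ _ check_chain6 (hlink _ _ check_chain5 (hlink _ _ check_chain4
    (hlink _ _ check_chain3 (hlink _ _ check_chain2 (hlink _ _ check_chain1 (hlink _ _ check_chain0 hstart)))))))))))
  have htail : ∀ k, sysF4.okK k = true → t k = c ^ mval posMask negMask k := by
    intro k hk'
    refine hall k ?_
    have h := check_all
    simp only [List.all_eq_true, List.mem_range, Bool.or_eq_true] at h
    have hlt : k < 2352 := by
      rcases of_ok hk' with h' | ⟨u, v, hu, hv, -, -, rfl⟩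
      · omega
      · simp only [keyOf]; omega
    exact (h k hlt).resolve_left (by simp [hk'])
  have hc2 : c ^ 2 = 1 := by
    have h := check_two
    split at h
    · cases h
    rename_i v hv
    simp only [Bool.and_eq_true, Bool.or_eq_true, beq_iff_eq, List.all_eq_true] at h
    obtain ⟨hok, hm⟩ := h
    have hvv : ∀ l : List (ℕ × ℤ), (∀ z ∈ l, sysF4.okK z.1 = true) → vv t l = c ^ mSum posMask negMask l := by
      intro l
      induction l with
      | nil => simp [vv, mSum]
      | cons z l ih =>
        intro hl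
        obtain ⟨j, e⟩ := z
        show t j ^ e * vv t l = c ^ (e * mval posMask negMask j + mSum posMask negMask l)
        rw [ih fun w hw => hl w (List.mem_cons_of_mem _ hw), htail j (hl (j, e) List.mem_cons_self), ← zpow_mul,
          zpow_add, mul_comm e]
    have h1 := (hvv v hok).symm.trans (ovlVec_sound hold hv)
    rw [← zpow_natCast]
    rcases hm with hm | hm <;> rw [hm] at h1
    · exact h1
    · rw [zpow_neg, inv_eq_one] at h1
      exact h1
  refine ⟨c.1, htk _, by rw [← Subgroup.coe_pow, hc2, Subgroup.coe_one], ?_⟩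
  set C := Subgroup.zpowers c.1
  have hCle : C ≤ σ.ker := Subgroup.zpowers_le.2 (htk _)
  haveI : C.Normal := ⟨fun z hz g => by
    rw [Subgroup.mem_center_iff.1 (hc (hCle hz)) g, mul_inv_cancel_right]; exact hz⟩
  have hmk : ∀ k, sysF4.okK k = true → ((wv y (sysF4.rule k).1 : Γ) : Γ ⧸ C) = wv y (sysF4.rule k).2 := by
    intro k hk'
    rw [hold k hk', QuotientGroup.mk_mul, (QuotientGroup.eq_one_iff (t k : Γ)).2, mul_one]
    rw [htail k hk', Subgroup.coe_zpow]
    exact zpow_mem (Subgroup.mem_zpowers _) _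
  obtain ⟨φ, hφ⟩ := hom_of_rels hF (fun r => (y r : Γ ⧸ C)) (fun r hr => by
      have h := hmk r (decide_eq_true (Or.inl hr))
      rw [show sysF4.rule r = ([r, r], []) from if_pos hr] at h
      simpa [wv] using h) fun r s hr hs h₁ h₂ => by
    have h := hmk _ (ok_pair hr hs h₁ h₂).1
    rw [(ok_pair hr hs h₁ h₂).2] at h
    simp only [wv, List.map_append, List.map_cons, List.map_nil, List.prod_append, List.prod_cons, List.prod_nil,
      mul_one, QuotientGroup.mk_mul] at h
    rw [h, mk_list_prod]
  let σ' : Γ ⧸ C →* chevF4.SteinbergCover F := QuotientGroup.lift C σ hCle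
  have hσ' : ∀ g : Γ, σ' (g : Γ ⧸ C) = σ g := fun g => QuotientGroup.lift_mk' C _ g
  have hid : σ'.comp φ = MonoidHom.id _ := by
    refine PresentedGroup.ext fun z => ?_
    obtain ⟨⟨r, hr⟩, v⟩ := z
    have hr' : r < 48 := hr
    have e : (PresentedGroup.of (⟨r, hr⟩, v) : chevF4.SteinbergCover F) = chevF4.scGen F r v := by
      simp [ChevalleyDatum.scGen, ChevalleyDatum.stX, hr]; rfl
    rw [e, MonoidHom.comp_apply, MonoidHom.id_apply]
    rcases field_two hF v with rfl | rfl
    · have h0 := PresentedGroup.one_of_mem (rels := chevF4.steinbergRelsAB F) (Or.inl ⟨r, (0 : F), 0, hr, rfl⟩)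
      simp only [add_zero, map_mul, map_inv, mul_inv_cancel_right] at h0
      rw [show chevF4.scGen F r 0 = 1 from h0, map_one, map_one]
    · rw [hφ r hr', hσ', py r hr']
  have hc' : σ'.ker ≤ Subgroup.center (Γ ⧸ C) := by
    intro z hz
    obtain ⟨g, rfl⟩ := QuotientGroup.mk_surjective z
    rw [MonoidHom.mem_ker, hσ'] at hz
    rw [Subgroup.mem_center_iff]
    intro w
    obtain ⟨h, rfl⟩ := QuotientGroup.mk_surjective w
    rw [← QuotientGroup.mk_mul, ← QuotientGroup.mk_mul, Subgroup.mem_center_iff.1 (hc hz) h]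
  intro g hg
  have hle : commutator Γ ≤ φ.range.comap (QuotientGroup.mk' C) := by
    rw [commutator_eq_closure, Subgroup.closure_le]
    rintro _ ⟨u, v, rfl⟩
    refine ⟨σ u * σ v * (σ u)⁻¹ * (σ v)⁻¹, ?_⟩
    rw [commutatorElement_def, QuotientGroup.mk'_apply]
    simp only [QuotientGroup.mk_mul, QuotientGroup.mk_inv, map_mul, map_inv]
    exact comm_congr hc' (by rw [hσ', ← MonoidHom.comp_apply, hid]; rfl)
      (by rw [hσ', ← MonoidHom.comp_apply, hid]; rfl)
  obtain ⟨d, hd⟩ := hle (hcomm hg)
  have hd1 : d = 1 := by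
    have := congrArg σ' hd
    rw [← MonoidHom.comp_apply, hid, QuotientGroup.mk'_apply, hσ', MonoidHom.mem_ker.1 hg] at this
    exact this
  rw [hd1, map_one, eq_comm, QuotientGroup.mk'_apply, QuotientGroup.eq_one_iff] at hd
  exact hd

end Cfsg.Agent.F4Cover
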